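import Groth.Agent.DeRhamSh.K854.WedgeSh
import Groth.Agent.DeRhamSh.K853.CxAff

/-!
# The Leibniz rule for the wedge product of sections of a de Rham complex
-/

set_option autoImplicit false

universe u

open CategoryTheory CategoryTheory.Limits AlgebraicGeometry Opposite TopologicalSpace exteriorPower
open Groth.Agent.Sga67.ExtAlg

namespace K205.Leib

section Abs

variable {A M : Type u} [CommRing A] [AddCommGroup M] [Module A M]

/-- Commutation of a wedge of `b` one-forms with a one-form. -/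
theorem ιMulti_mul_ι (b : ℕ) (v : Fin b → M) (m : M) :
    ExteriorAlgebra.ιMulti A b v * ExteriorAlgebra.ι A m =
      (-1 : ℤ) ^ b • (ExteriorAlgebra.ι A m * ExteriorAlgebra.ιMulti A b v) := by
  induction b with
  | zero => simp [ExteriorAlgebra.ιMulti_zero_apply]
  | succ b ih =>
    have h := ExteriorAlgebra.ι_add_mul_swap (R := A) (v 0) m
    rw [ExteriorAlgebra.ιMulti_succ_apply, mul_assoc, ih, mul_smul_comm, ← mul_assoc, ← mul_assoc,
      eq_neg_of_add_eq_zero_left h, pow_succ, mul_smul, neg_mul]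
    simp

theorem leib_abs (δ : Derivation ℤ A M) (hgen : Submodule.span A (Set.range δ) = ⊤)
    (d : ∀ p : ℕ, ↥(⋀[A]^p M) →+ ↥(⋀[A]^(p + 1) M))
    (hd : ∀ (p : ℕ) (b₀ : A) (b : Fin p → A), d p (DeRham.gen δ p b₀ b) =
      ιMulti A (p + 1) (Fin.cons (δ b₀) (fun i => δ (b i))))
    {b a c : ℕ} (h : b + a = c) (h1 : b + 1 + a = c + 1) (h2 : b + (a + 1) = c + 1)
    (y : ↥(⋀[A]^b M)) (x : ↥(⋀[A]^a M)) :
    d c (wedge h y x) = wedge h1 (d b y) x + (-1 : ℤ) ^ b • wedge h2 y (d a x) := by
  refine K852.DR.gen_induction δ hgen b (P := fun y => d c (wedge h y x) =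
    wedge h1 (d b y) x + (-1 : ℤ) ^ b • wedge h2 y (d a x)) ?_ ?_ ?_ ?_ y
  · intro b₀ b'
    refine K852.DR.gen_induction δ hgen a (P := fun x => d c (wedge h (DeRham.gen δ b b₀ b') x) =
      wedge h1 (d b (DeRham.gen δ b b₀ b')) x +
        (-1 : ℤ) ^ b • wedge h2 (DeRham.gen δ b b₀ b') (d a x)) ?_ ?_ ?_ ?_ x
    · intro a₀ a'
      have e1 : wedge h (DeRham.gen δ b b₀ b') (DeRham.gen δ a a₀ a') =
          DeRham.gen δ c (b₀ * a₀) (Fin.append b' a' ∘ Fin.cast h.symm) := by
        rw [DeRham.gen, DeRham.gen, DeRham.gen, map_smul, map_smul, LinearMap.smul_apply, wedge_ιMulti, smul_smul,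
          mul_comm a₀ b₀]
        congr 2
        funext i
        simp only [Function.comp_apply]
        generalize Fin.cast h.symm i = j
        refine Fin.addCases (fun i => ?_) (fun i => ?_) j <;> simp
      have e2 : ιMulti A c (fun i => δ ((Fin.append b' a' ∘ Fin.cast h.symm) i)) =
          wedge h (ιMulti A b (fun i => δ (b' i))) (ιMulti A a (fun i => δ (a' i))) := by
        rw [wedge_ιMulti]
        congr 1
        funext i
        simp only [Function.comp_apply]
        generalize Fin.cast h.symm i = j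
        refine Fin.addCases (fun i => ?_) (fun i => ?_) j <;> simp
      rw [e1, hd, hd, hd, K852.DR.ιMulti_cons, K852.DR.ιMulti_cons, K852.DR.ιMulti_cons, e2, δ.leibniz]
      apply Subtype.ext
      rw [DeRham.gen, DeRham.gen]
      have hc := ιMulti_mul_ι (A := A) b (fun i => δ (b' i)) (δ a₀)
      simp only [K852.DR.wedge1_coe, coe_wedge, Submodule.coe_add, Submodule.coe_smul_of_tower, map_add, map_smul,
        ιMulti_apply_coe, LinearMap.smul_apply, LinearMap.add_apply]
      rw [← mul_assoc (ExteriorAlgebra.ιMulti A b fun i => δ (b' i)) (ExteriorAlgebra.ι A (δ a₀)), hc,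
        smul_mul_assoc, smul_comm b₀ ((-1 : ℤ) ^ b), smul_smul ((-1 : ℤ) ^ b), ← mul_pow, neg_mul_neg, one_mul,
        one_pow, one_smul, add_comm, mul_assoc, mul_assoc]
    · simp
    · intro x x' hx hx'
      rw [map_add, map_add, hx, hx', map_add, map_add, map_add, smul_add]
      abel
    · intro x hx
      rw [map_neg, map_neg, hx, map_neg, map_neg, map_neg, smul_neg]
      abel
  · simp
  · intro y y' hy hy'
    rw [map_add, LinearMap.add_apply, map_add, hy, hy', map_add, map_add, LinearMap.add_apply, map_add,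
      LinearMap.add_apply, smul_add]
    abel
  · intro y hy
    rw [map_neg, LinearMap.neg_apply, map_neg, hy, map_neg, map_neg, LinearMap.neg_apply, map_neg,
      LinearMap.neg_apply, smul_neg]
    abel

end Abs

variable {A : Type u} [CommRing A] {X : Scheme.{u}} (f : X ⟶ Spec (CommRingCat.of A)) [QuasiSeparated f]
  (D : DeRhamSh.OmegaCx f)

open Groth.Agent.Lefpen.H721.OmegaSec Groth.Agent.CurvesB.OmegaStalkDict Groth.Agent.CurvesB.OmegaDer

/-- The derivation of sections as a derivation over `ℤ`. -/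
noncomputable def derZ (W : X.Opens) : Derivation ℤ Γ(X, W) Γ(Omega.sheaf f, W) where
  toLinearMap := ((OmegaSh.dOmega f).app W).toIntLinearMap
  map_one_eq_zero' := by
    change (OmegaSh.dOmega f).app W 1 = 0
    rw [K853.OmegaBridge.dOmega_app_eq]
    have : QuasiCompact (pullback.diagonal f) := inferInstance
    rw [← map_one (secHom f W), d_secHom]
  leibniz' s t := by
    change (OmegaSh.dOmega f).app W (s * t) = s • (OmegaSh.dOmega f).app W t + t • (OmegaSh.dOmega f).app W s
    rw [K853.OmegaBridge.dOmega_app_eq, K853.OmegaBridge.dOmega_app_eq, K853.OmegaBridge.dOmega_app_eq]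
    exact d_mul f W s t

theorem derZ_apply (W : X.Opens) (s : Γ(X, W)) : derZ f W s = (OmegaSh.dOmega f).app W s := rfl

theorem span_derZ (W : X.affineOpens) : Submodule.span Γ(X, W.1) (Set.range (derZ f W.1)) = ⊤ := by
  have : QuasiCompact (pullback.diagonal f) := inferInstance
  obtain ⟨e, he⟩ := exists_omega_equiv f W.2
  have h0 : Submodule.span (SA f W.1) (Set.range (KaehlerDifferential.D A (SA f W.1))) = ⊤ :=
    KaehlerDifferential.span_range_derivation A (SA f W.1)
  have h1 := congrArg (Submodule.map e.toLinearMap) h0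
  rw [Submodule.map_span, Submodule.map_top, LinearMap.range_eq_top.mpr e.surjective, ← Set.range_comp] at h1
  have h2 : (e.toLinearMap ∘ (KaehlerDifferential.D A (SA f W.1)) : SA f W.1 → Γ(Omega.sheaf f, W.1)) =
      derZ f W.1 := by
    funext s
    exact (he s).trans (K853.OmegaBridge.dOmega_app_eq f W.1 s).symm
  rw [h2] at h1
  exact h1

/-- **The Leibniz rule.** -/
theorem leib {b a c : ℕ} (h : b + a = c) (h1 : b + 1 + a = c + 1) (h2 : b + (a + 1) = c + 1)
    (W : X.affineOpens) (y : Γ(D.term b, W.1)) (x : Γ(D.term a, W.1)) :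
    K853.CxAff.dSec D W.1 c (K854.WedgeSh.wd D h W.1 y x) =
      K854.WedgeSh.wd D h1 W.1 (K853.CxAff.dSec D W.1 b y) x +
        (-1 : ℤ) ^ b • K854.WedgeSh.wd D h2 W.1 y (K853.CxAff.dSec D W.1 a x) := by
  let dd : ∀ p : ℕ, ↥(⋀[Γ(X, W.1)]^p Γ(Omega.sheaf f, W.1)) →+ ↥(⋀[Γ(X, W.1)]^(p + 1) Γ(Omega.sheaf f, W.1)) :=
    fun p => (D.loc (p + 1) W).toLinearMap.toAddMonoidHom.comp
      ((K853.CxAff.dSec D W.1 p).comp (D.loc p W).symm.toLinearMap.toAddMonoidHom)
  have hdd : ∀ p (z : Γ(D.term p, W.1)), dd p (D.loc p W z) = D.loc (p + 1) W (K853.CxAff.dSec D W.1 p z) := by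
    intro p z
    change D.loc (p + 1) W (K853.CxAff.dSec D W.1 p ((D.loc p W).symm (D.loc p W z))) = _
    rw [LinearEquiv.symm_apply_apply]
  have key := leib_abs (derZ f W.1) (span_derZ f W) dd (fun p b₀ b => by
    change D.loc (p + 1) W (K853.CxAff.dSec D W.1 p ((D.loc p W).symm
      (b₀ • ιMulti _ p (fun i => (OmegaSh.dOmega f).app W.1 (b i))))) = _
    rw [K853.CxAff.dSec_rule, LinearEquiv.apply_symm_apply]
    rfl) h h1 h2 (D.loc b W y) (D.loc a W x)
  apply (D.loc (c + 1) W).injective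
  rw [map_add, map_zsmul, K854.WedgeSh.loc_wd, K854.WedgeSh.loc_wd, ← hdd, K854.WedgeSh.loc_wd, key, hdd, hdd]

end K205.Leib
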