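import Groth.Agent.S2363
import Mathlib.RingTheory.HopkinsLevitzki
import Mathlib.RingTheory.Flat.FaithfullyFlat.Algebra
import Mathlib.FieldTheory.IsAlgClosed.AlgebraicClosure
import Mathlib.RingTheory.KrullDimension.Zero

/-!
# Artinian local algebras with algebraically closed residue field
-/

set_option autoImplicit false
universe u

namespace K205.ArtAlg

open IsLocalRing

section Quot

variable {A : Type u} [CommRing A] (I : Ideal A) (hI : I.IsMaximal) (k : ℕ) (hk : k ≠ 0)

include hI in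
theorem comap_eq (J : Ideal (A ⧸ I ^ k)) (hJ : J.IsMaximal) : J.comap (Ideal.Quotient.mk (I ^ k)) = I := by
  have hp : (J.comap (Ideal.Quotient.mk (I ^ k))).IsPrime := hJ.isPrime.comap _
  have h1 : I ^ k ≤ J.comap (Ideal.Quotient.mk (I ^ k)) := fun x hx => by
    rw [Ideal.mem_comap, Ideal.Quotient.eq_zero_iff_mem.2 hx]
    exact J.zero_mem
  exact (hI.eq_of_le hp.ne_top (hp.le_of_pow_le h1)).symm

include hI hk in
/-- The quotient by a power of a maximal ideal is local. -/
theorem isLocalRing_quot : IsLocalRing (A ⧸ I ^ k) := by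
  have hnt : Nontrivial (A ⧸ I ^ k) := Ideal.Quotient.nontrivial_iff.2 fun h =>
    hI.ne_top (top_le_iff.1 (h.symm.le.trans (Ideal.pow_le_self hk)))
  obtain ⟨J, hJ⟩ := Ideal.exists_maximal (A ⧸ I ^ k)
  refine IsLocalRing.of_unique_max_ideal ⟨J, hJ, fun J' hJ' => ?_⟩
  exact Ideal.comap_injective_of_surjective _ Ideal.Quotient.mk_surjective
    ((comap_eq I hI k J' hJ').trans (comap_eq I hI k J hJ).symm)

include hI in
theorem maximalIdeal_pow [IsLocalRing (A ⧸ I ^ k)] : maximalIdeal (A ⧸ I ^ k) ^ k = ⊥ := by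
  have h1 := Ideal.map_comap_of_surjective (Ideal.Quotient.mk (I ^ k)) Ideal.Quotient.mk_surjective
    (maximalIdeal (A ⧸ I ^ k))
  rw [comap_eq I hI k _ (maximalIdeal.isMaximal _)] at h1
  rw [← h1, ← Ideal.map_pow, Ideal.map_quotient_self]

end Quot

/-- **Faithfully flat Artinian local algebras with algebraically closed residue field over the quotients of a
Noetherian ring by powers of maximal ideals.** -/
theorem exists_alg (A : Type u) [CommRing A] [IsNoetherianRing A] (I : Ideal A) (hI : I.IsMaximal) (k : ℕ)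
    (hk : k ≠ 0) : ∃ (B : Type u) (_ : CommRing B) (_ : Algebra A B) (_ : Algebra (A ⧸ I ^ k) B)
      (_ : IsScalarTower A (A ⧸ I ^ k) B), Module.FaithfullyFlat (A ⧸ I ^ k) B ∧ IsArtinianRing B ∧
        ∃ _ : IsLocalRing B, IsAlgClosed (ResidueField B) := by
  have hloc := isLocalRing_quot I hI k hk
  obtain ⟨B, iB, iR, hN, hL, hh, hF, e, -⟩ := Groth.Agent.S2363.result (A := A ⧸ I ^ k)
    (AlgebraicClosure (ResidueField (A ⧸ I ^ k)))
  let _ : Algebra A B := ((algebraMap (A ⧸ I ^ k) B).comp (Ideal.Quotient.mk (I ^ k))).toAlgebra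
  have _ : IsScalarTower A (A ⧸ I ^ k) B := IsScalarTower.of_algebraMap_eq' rfl
  have hmax : ((maximalIdeal (A ⧸ I ^ k)).map (algebraMap (A ⧸ I ^ k) B)).IsMaximal := by
    refine Ideal.Quotient.maximal_of_isField _ ?_
    exact e.toMulEquiv.isField (Field.toIsField _)
  have heq : maximalIdeal B = (maximalIdeal (A ⧸ I ^ k)).map (algebraMap (A ⧸ I ^ k) B) :=
    (eq_maximalIdeal hmax).symm
  refine ⟨B, iB, inferInstance, iR, inferInstance, Module.FaithfullyFlat.of_flat_of_isLocalHom, ?_, hL, ?_⟩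
  · refine (isArtinianRing_iff_isNilpotent_maximalIdeal B).2 ⟨k, ?_⟩
    rw [heq, ← Ideal.map_pow, maximalIdeal_pow I hI k, Ideal.map_bot]
    rfl
  · exact IsAlgClosed.of_ringEquiv _ _ (((Ideal.quotEquivOfEq heq).trans e).symm)

end K205.ArtAlg
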