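import Groth.Agent.DeRhamSh.K854.ExtChain

/-!
# Morphisms of chains of short exact sequences and their classes
-/

set_option autoImplicit false

universe w v u

open CategoryTheory CategoryTheory.Limits CategoryTheory.Abelian

namespace K205.ChainMor

open K854.ExtChain

variable {C : Type u} [Category.{v} C] [Abelian C] (R R' : Chain C)

/-- The differential of the middle terms. -/
abbrev dK (R : Chain C) (n : ℕ) : R.K n ⟶ R.K (n + 1) := R.p n ≫ R.i (n + 1)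

variable {R R'} (z₀ : R.Z 0 ⟶ R'.Z 0) (k : ∀ n, R.K n ⟶ R'.K n)
  (h₀ : R.i 0 ≫ k 0 = z₀ ≫ R'.i 0) (hk : ∀ n, dK R n ≫ k (n + 1) = k n ≫ dK R' n)

include hk in
theorem exists_step (n : ℕ) (z : R.Z n ⟶ R'.Z n) (hz : R.i n ≫ k n = z ≫ R'.i n) :
    ∃ z' : R.Z (n + 1) ⟶ R'.Z (n + 1), R.i (n + 1) ≫ k (n + 1) = z' ≫ R'.i (n + 1) ∧
      R.p n ≫ z' = k n ≫ R'.p n := by
  have he : Epi (R.p n) := (R.se n).epi_g
  have h1 : R.i n ≫ k n ≫ R'.p n = 0 := by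
    rw [← Category.assoc, hz, Category.assoc, R'.w, comp_zero]
  have hp : R.p n ≫ (R.se n).exact.desc (k n ≫ R'.p n) h1 = k n ≫ R'.p n := (R.se n).exact.g_desc _ _
  refine ⟨(R.se n).exact.desc (k n ≫ R'.p n) h1, ?_, hp⟩
  rw [← cancel_epi (R.p n), ← Category.assoc, hk n, ← Category.assoc]
  exact congrArg (· ≫ R'.i (n + 1)) hp.symm |>.trans (Category.assoc _ _ _)

/-- The maps on the kernels. -/
noncomputable def zz : ∀ n, {z : R.Z n ⟶ R'.Z n // R.i n ≫ k n = z ≫ R'.i n}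
  | 0 => ⟨z₀, h₀⟩
  | n + 1 => ⟨(exists_step k hk n (zz n).1 (zz n).2).choose, (exists_step k hk n (zz n).1 (zz n).2).choose_spec.1⟩

theorem zz_zero : (zz z₀ k h₀ hk 0).1 = z₀ := rfl

theorem i_k (n : ℕ) : R.i n ≫ k n = (zz z₀ k h₀ hk n).1 ≫ R'.i n := (zz z₀ k h₀ hk n).2

theorem p_zz (n : ℕ) : R.p n ≫ (zz z₀ k h₀ hk (n + 1)).1 = k n ≫ R'.p n :=
  (exists_step k hk n (zz z₀ k h₀ hk n).1 (zz z₀ k h₀ hk n).2).choose_spec.2

variable [HasExt.{w} C]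

theorem cls_comm (n : ℕ) : (Ext.mk₀ (zz z₀ k h₀ hk n).1).comp (R'.cls n) (zero_add n) =
    (R.cls n).comp (Ext.mk₀ z₀) (add_zero n) := by
  induction n with
  | zero =>
    rw [Chain.cls_zero, Chain.cls_zero, Ext.mk₀_comp_mk₀, Ext.mk₀_comp_mk₀, Category.comp_id, Category.id_comp]
    rfl
  | succ n ih =>
    let φ : ShortComplex.mk (R.i n) (R.p n) (R.w n) ⟶ ShortComplex.mk (R'.i n) (R'.p n) (R'.w n) :=
      { τ₁ := (zz z₀ k h₀ hk n).1
        τ₂ := k n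
        τ₃ := (zz z₀ k h₀ hk (n + 1)).1
        comm₁₂ := (i_k z₀ k h₀ hk n).symm
        comm₂₃ := (p_zz z₀ k h₀ hk n).symm }
    have h1 : (R.se n).extClass.comp (Ext.mk₀ (zz z₀ k h₀ hk n).1) (add_zero 1) =
      (Ext.mk₀ (zz z₀ k h₀ hk (n + 1)).1).comp (R'.se n).extClass (zero_add 1) :=
      ShortComplex.ShortExact.extClass_naturality (R.se n) (R'.se n) φ
    rw [Chain.cls_succ, Chain.cls_succ,
      ← Ext.comp_assoc (Ext.mk₀ (zz z₀ k h₀ hk (n + 1)).1) (R'.se n).extClass (R'.cls n) (zero_add 1)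
      (add_comm 1 n) (by omega), ← h1,
      Ext.comp_assoc (R.se n).extClass (Ext.mk₀ (zz z₀ k h₀ hk n).1) (R'.cls n) (add_zero 1) (zero_add _) (by omega), ih]
    exact (Ext.comp_assoc (R.se n).extClass (R.cls n) (Ext.mk₀ z₀) (add_comm 1 n) (add_zero n) (by omega)).symm

/-- The class of a composite with a morphism of chains. -/
theorem cl_comm {T : C} (n : ℕ) (f : T ⟶ R.Z n) : R'.cl T n (f ≫ (zz z₀ k h₀ hk n).1) =
    (R.cl T n f).comp (Ext.mk₀ z₀) (add_zero n) := by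
  rw [Chain.cl_apply, ← Ext.mk₀_comp_mk₀, Ext.comp_assoc_of_second_deg_zero, cls_comm, Chain.cl_apply]
  exact (Ext.comp_assoc (Ext.mk₀ f) (R.cls n) (Ext.mk₀ z₀) (zero_add n) (add_zero n) (by omega)).symm

omit [HasExt.{w} C] in
/-- Morphisms to `K n` killed by the differential come from `Z n`. -/
theorem exists_lift {T : C} (n : ℕ) (s : T ⟶ R.K n) (hs : s ≫ dK R n = 0) : ∃ f : T ⟶ R.Z n, f ≫ R.i n = s := by
  have hm : Mono (R.i (n + 1)) := (R.se (n + 1)).mono_f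
  have hm' : Mono (R.i n) := (R.se n).mono_f
  have h1 : s ≫ R.p n = 0 := by
    rw [← cancel_mono (R.i (n + 1)), Category.assoc, hs, zero_comp]
  exact ⟨(R.se n).exact.lift s h1, (R.se n).exact.lift_f s h1⟩

include h₀ hk in
/-- **Main statement.** A cocycle of `R` whose class dies under `z₀` is mapped by `k` to a coboundary. -/
theorem exists_of_comp_eq_zero {T : C} (hT : R'.Acyc T) (n : ℕ)
    (hz : ∀ x : Ext.{w} T (R.Z 0) (n + 1), x.comp (Ext.mk₀ z₀) (add_zero (n + 1)) = 0) (s : T ⟶ R.K (n + 1))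
    (hs : s ≫ dK R (n + 1) = 0) : ∃ g : T ⟶ R'.K n, g ≫ dK R' n = s ≫ k (n + 1) := by
  obtain ⟨f, rfl⟩ := exists_lift (n + 1) s hs
  obtain ⟨g, hg⟩ := Chain.cl_eq_zero hT n (f ≫ (zz z₀ k h₀ hk (n + 1)).1) (by rw [cl_comm, hz])
  refine ⟨g, ?_⟩
  have h1 := i_k z₀ k h₀ hk (n + 1)
  calc g ≫ dK R' n = (g ≫ R'.p n) ≫ R'.i (n + 1) := (Category.assoc _ _ _).symm
    _ = f ≫ ((zz z₀ k h₀ hk (n + 1)).1 ≫ R'.i (n + 1)) := by rw [hg, Category.assoc]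
    _ = f ≫ (R.i (n + 1) ≫ k (n + 1)) := congrArg (f ≫ ·) h1.symm
    _ = _ := (Category.assoc _ _ _).symm

include h₀ in
theorem eq_zero_of_comp_eq_zero {T : C}
    (hz : ∀ x : Ext.{w} T (R.Z 0) 0, x.comp (Ext.mk₀ z₀) (add_zero 0) = 0) (s : T ⟶ R.K 0)
    (hs : s ≫ dK R 0 = 0) : s ≫ k 0 = 0 := by
  obtain ⟨f, rfl⟩ := exists_lift 0 s hs
  have h1 := hz (Ext.mk₀ f)
  rw [Ext.mk₀_comp_mk₀] at h1
  have h2 : f ≫ z₀ = 0 := (Ext.mk₀_eq_zero_iff _).mp h1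
  rw [Category.assoc, h₀, ← Category.assoc, h2, zero_comp]

end K205.ChainMor
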