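import Groth.Agent.DeRhamSh.K854.CechPair
import Groth.Agent.DeRhamSh.K205.ChainMor
import Groth.Agent.CohqB.ToSheafExact
import Groth.Agent.Fga.PicTanSheaf
import Groth.Agent.DeRhamSh.K853.CxAff

/-!
# Naturality of Čech classes for maps of abelian sheaves

`M`, `N` modules, `φ : toAb M ⟶ toAb N` a map of abelian sheaves which is zero on `H^n(X, -)`, `x` a Čech cocycle of
`M` in degree `n`: then `φ(x)` is a coboundary (`N` quasi-coherent, `U` a finite affine cover, `X` separated).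
-/

set_option autoImplicit false
universe u

open CategoryTheory CategoryTheory.Limits AlgebraicGeometry Opposite TopologicalSpace
open Groth.Agent Groth.Agent.LoccohB.GlueHom Groth.Agent.Fga.PicTanSheaf
open K854.CechMod CategoryTheory.Abelian

namespace K205.CechNat

variable {X : Scheme.{u}}

/-- The forgetful functor. -/
noncomputable abbrev TF (X : Scheme.{u}) : X.Modules ⥤ Sh X := Groth.Agent.CohqB.ToSheafExact.toAbF X

/-- The constant sheaf. -/
noncomputable abbrev TT (X : Scheme.{u}) : Sh X :=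
  (constantSheaf (Opens.grothendieckTopology X) AddCommGrpCat.{u}).obj (AddCommGrpCat.of (ULift ℤ))

theorem isTerminalTop : Nonempty (IsTerminal (⊤ : X.Opens)) := ⟨Limits.isTerminalTop⟩

/-- Global sections as morphisms from the constant sheaf. -/
noncomputable def eT (F : Sh X) : sec F ⊤ ≃+ (TT X ⟶ F) :=
  (Sheaf.H.equiv₀ F (Limits.isTerminalTop (α := X.Opens))).symm.trans Ext.addEquiv₀

theorem eT_ap {F G : Sh X} (φ : F ⟶ G) (s : sec F ⊤) : eT G (ap φ ⊤ s) = eT F s ≫ φ := by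
  have h1 := Sheaf.H.equiv₀_symm_naturality (Limits.isTerminalTop (α := X.Opens)) φ s
  have h2 := Sheaf.H.addEquiv₀_map φ ((Sheaf.H.equiv₀ F (Limits.isTerminalTop (α := X.Opens))).symm s)
  change Ext.addEquiv₀ ((Sheaf.H.equiv₀ G (Limits.isTerminalTop (α := X.Opens))).symm (φ.hom.app (op ⊤) s)) = _
  rw [← h1, h2]
  rfl

section Chains

variable {ι : Type} (U : ι → X.Opens) (hcov : ⨆ i, U i = ⊤)

/-- The chain of abelian sheaves. -/
noncomputable def chainAb (M : X.Modules) : K854.ExtChain.Chain (Sh X) where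
  Z n := Coh.toAb (Zc U M n)
  K n := Coh.toAb (cc U M n)
  i n := (TF X).map (ic U M n)
  p n := (TF X).map (pc U M n)
  w n := by
    rw [← Functor.map_comp, ic_pc, Functor.map_zero]
  se n := Groth.Agent.CohqB.ToSheafExact.shortExact_toAb (shortExact U M hcov n)

theorem dK_chainAb (M : X.Modules) (n : ℕ) : ChainMor.dK (chainAb U hcov M) n = (TF X).map (dd U M n) := by
  change (TF X).map (pc U M n) ≫ (TF X).map (ic U M (n + 1)) = _
  rw [← Functor.map_comp, pc_ic]

variable {M N : X.Modules} (φ : Coh.toAb M ⟶ Coh.toAb N)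

/-- The map on Čech modules. -/
noncomputable def kk (n : ℕ) : Coh.toAb (cc U M n) ⟶ Coh.toAb (cc U N n) :=
  mk (fun V => (toF (Ot U n) N).symm.toAddMonoidHom.comp
      (AddMonoidHom.mk' (fun s σ => ap φ (V ⊓ Ot U n σ) (tf U M (V := V) s σ)) (fun s t => by
        funext σ
        exact map_add _ _ _)))
    (fun V W h s => by
      apply (toF (Ot U n) N).injective
      funext σ
      exact ap_rs φ (inf_le_inf_right _ h) (tf U M (V := V) s σ))

theorem tf_kk (n : ℕ) {V : X.Opens} (s : Γ(cc U M n, V)) (σ : Fin (n + 1) → ι) :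
    tf U N (V := V) (ap (kk U φ n) V s) σ = ap φ (V ⊓ Ot U n σ) (tf U M s σ) := rfl

theorem aug_kk : (chainAb U hcov M).i 0 ≫ kk U φ 0 = φ ≫ (chainAb U hcov N).i 0 := by
  apply Fga.PicTanSheaf.hom_ext
  intro V s
  refine (ap_comp _ _ _ _).trans (Eq.trans ?_ (ap_comp _ _ _ _).symm)
  apply (toF (Ot U 0) N).injective
  funext σ
  exact ap_rs φ (inf_le_left : V ⊓ Ot U 0 σ ≤ V) s

theorem dd_kk (n : ℕ) : ChainMor.dK (chainAb U hcov M) n ≫ kk U φ (n + 1) =
    kk U φ n ≫ ChainMor.dK (chainAb U hcov N) n := by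
  rw [dK_chainAb, dK_chainAb]
  apply Fga.PicTanSheaf.hom_ext
  intro V s
  refine (ap_comp _ _ _ _).trans (Eq.trans ?_ (ap_comp _ _ _ _).symm)
  apply (toF (Ot U (n + 1)) N).injective
  funext σ
  change ap φ (V ⊓ Ot U (n + 1) σ) (∑ j : Fin (n + 2), (-1 : ℤ) ^ (j : ℕ) •
      res M (inf_le_inf_left V (Ot_face U σ j)) (tf U M s (σ ∘ j.succAbove))) =
    ∑ j : Fin (n + 2), (-1 : ℤ) ^ (j : ℕ) •
      res N (inf_le_inf_left V (Ot_face U σ j)) (ap φ _ (tf U M s (σ ∘ j.succAbove)))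
  refine (map_sum (ap φ (V ⊓ Ot U (n + 1) σ)) _ _).trans ?_
  refine Finset.sum_congr rfl fun j _ => ?_
  refine (map_zsmul (ap φ (V ⊓ Ot U (n + 1) σ)) _ _).trans ?_
  exact congrArg _ (ap_rs φ (inf_le_inf_left V (Ot_face U σ j)) _)

end Chains

section Main

variable (k : Type u) [Field k] [X.Over (Spec (CommRingCat.of k))] {ι : Type} [Finite ι]
  (U : ι → X.Opens) (hcov : ⨆ i, U i = ⊤) (hU : ∀ s : Finset ι, s.Nonempty → IsAffineOpen (⨅ i ∈ s, U i))

include k hU in
theorem acyc [X.IsSeparated] {N : X.Modules} (hN : Coh.IsQCoh N) :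
    (chainAb U hcov N).Acyc (TT X) := fun n q => subsingleton_HH k U hcov hU hN n q

open K854.CechPair in
include hcov hU in
/-- **Main statement.** -/
theorem isBd_of_map_eq_zero [X.IsSeparated] {M N : X.Modules} (hN : Coh.IsQCoh N)
    (φ : Coh.toAb M ⟶ Coh.toAb N) (n : ℕ) (hφ : ∀ z : Coh.HH X M n, Sheaf.H.map φ n z = 0)
    (x : Co k U M n) (hx : dk k U M n x = 0) (y : Co k U N n)
    (hy : ∀ σ, tf U N (V := ⊤) y σ = ap φ (⊤ ⊓ Ot U n σ) (tf U M (V := ⊤) x σ)) : IsBd k U N n y := by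
  have hy' : y = ap (kk U φ n) ⊤ x := by
    apply (toF (Ot U n) N).injective
    funext σ
    exact hy σ
  let x' : sec (Coh.toAb (cc U M n)) ⊤ := x
  have hs : eT (Coh.toAb (cc U M n)) x' ≫ ChainMor.dK (chainAb U hcov M) n = 0 := by
    rw [dK_chainAb]
    refine (eT_ap ((TF X).map (dd U M n)) x').symm.trans ?_
    have h1 : ap ((TF X).map (dd U M n)) ⊤ x' = 0 := hx
    rw [h1]
    exact map_zero (eT (Coh.toAb (cc U M (n + 1))))
  cases n with
  | zero =>
    have h1 : eT (Coh.toAb (cc U M 0)) x' ≫ kk U φ 0 = 0 :=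
      ChainMor.eq_zero_of_comp_eq_zero (R := chainAb U hcov M) (R' := chainAb U hcov N) φ (kk U φ)
        (aug_kk U hcov φ) hφ (eT (Coh.toAb (cc U M 0)) x') hs
    change y = 0
    rw [hy']
    exact (eT (Coh.toAb (cc U N 0))).injective (((eT_ap (kk U φ 0) x').trans h1).trans
      (map_zero (eT (Coh.toAb (cc U N 0)))).symm)
  | succ n =>
    obtain ⟨g, hg⟩ := ChainMor.exists_of_comp_eq_zero (R := chainAb U hcov M) (R' := chainAb U hcov N) φ (kk U φ)
      (aug_kk U hcov φ) (dd_kk U hcov φ) (acyc k U hcov hU hN) n hφ (eT (Coh.toAb (cc U M (n + 1))) x') hs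
    let g' : sec (Coh.toAb (cc U N n)) ⊤ := (eT (Coh.toAb (cc U N n))).symm g
    refine ⟨g', ?_⟩
    rw [hy']
    refine (eT (Coh.toAb (cc U N (n + 1)))).injective (Eq.trans ?_ (eT_ap (kk U φ (n + 1)) x').symm)
    refine (eT_ap ((TF X).map (dd U N n)) g').trans ?_
    have h2 : eT (Coh.toAb (cc U N n)) g' = g := (eT (Coh.toAb (cc U N n))).apply_symm_apply g
    rw [h2, ← dK_chainAb U hcov N n]
    exact hg

end Main

section DR

variable {k : Type u} [Field k] {f : X ⟶ Spec (CommRingCat.of k)} [X.Over (Spec (CommRingCat.of k))]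
  {ι : Type} [Finite ι] (U : ι → X.Opens) (hcov : ⨆ i, U i = ⊤)
  (hU : ∀ s : Finset ι, s.Nonempty → IsAffineOpen (⨅ i ∈ s, U i))

open K854.CechPair in
include hcov hU in
/-- The form needed for de Rham complexes. -/
theorem isBd_dSec [X.IsSeparated] {Ω' : X.Modules} {δ : OmegaSh.Der f Ω'} (D : DeRhamSh.Cx f Ω' δ) (e n : ℕ)
    (hq : Coh.IsQCoh (D.term (e + 1)))
    (hd : ∀ z : Coh.HH X (D.term e) n,
      Sheaf.H.map ((D.iso e).inv ≫ D.K.d e (e + 1) ≫ (D.iso (e + 1)).hom) n z = 0)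
    (x : Co k U (D.term e) n) (hx : dk k U (D.term e) n x = 0) (y : Co k U (D.term (e + 1)) n)
    (hy : ∀ σ, tf U (D.term (e + 1)) (V := ⊤) y σ =
      K853.CxAff.dSec D (⊤ ⊓ Ot U n σ) e (tf U (D.term e) (V := ⊤) x σ)) :
    IsBd k U (D.term (e + 1)) n y :=
  isBd_of_map_eq_zero k U hcov hU hq ((D.iso e).inv ≫ D.K.d e (e + 1) ≫ (D.iso (e + 1)).hom) n hd x hx y hy

end DR

end K205.CechNat
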