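import Groth.Agent.DeRhamSh.K205.TopRed
import Mathlib.Topology.NoetherianSpace
import Mathlib.Topology.Connected.Clopen

/-!
# Reduction to connected clopen subsets on Noetherian spaces
-/

set_option autoImplicit false
universe u

open CategoryTheory Abelian Limits Opposite TopologicalSpace Topology

namespace K205.TopRed

variable {X : TopCat.{u}} {F G : CohTop.Ab X} {φ : F ⟶ G} {n : ℕ}

/-- On a Noetherian space it suffices to consider connected clopen subsets. -/
theorem zU_of_conn [NoetherianSpace X]
    (H : ∀ U : Opens X, IsClosed (U : Set X) → ConnectedSpace U → ZU φ (n + 1) U) : ZU φ (n + 1) ⊤ := by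
  suffices h : ∀ (Z : Closeds X) (hZ : IsOpen (Z : Set X)), ZU φ (n + 1) ⟨Z, hZ⟩ from h ⊤ isOpen_univ
  have hwf : WellFoundedLT (Closeds X) := inferInstance
  intro Z
  induction Z using WellFoundedLT.induction with
  | ind Z ih =>
    intro hZ
    by_cases hc : ConnectedSpace (Z : Set X)
    · exact H ⟨Z, hZ⟩ Z.isClosed hc
    · rcases Set.eq_empty_or_nonempty (Z : Set X) with h0 | h0
      · have h1 : (⟨Z, hZ⟩ : Opens X) = ⊥ := Opens.ext h0
        rw [h1]
        exact zU_bot
      · have hnp : ¬ PreconnectedSpace (Z : Set X) := fun h =>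
          hc { toPreconnectedSpace := h, toNonempty := h0.to_subtype }
        rw [preconnectedSpace_iff_clopen] at hnp
        push Not at hnp
        obtain ⟨s, hs, hs1, hs2⟩ := hnp
        have ho : IsOpenEmbedding (Subtype.val : ↥(Z : Set X) → X) := hZ.isOpenEmbedding_subtypeVal
        have hcl : IsClosedEmbedding (Subtype.val : ↥(Z : Set X) → X) := Z.isClosed.isClosedEmbedding_subtypeVal
        let Z1 : Closeds X := ⟨Subtype.val '' s, hcl.isClosedMap _ hs.isClosed⟩
        let Z2 : Closeds X := ⟨Subtype.val '' sᶜ, hcl.isClosedMap _ hs.compl.isClosed⟩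
        have ho1 : IsOpen (Z1 : Set X) := ho.isOpenMap _ hs.isOpen
        have ho2 : IsOpen (Z2 : Set X) := ho.isOpenMap _ hs.compl.isOpen
        have hle1 : Z1 ≤ Z := by
          rintro _ ⟨x, -, rfl⟩
          exact x.2
        have hle2 : Z2 ≤ Z := by
          rintro _ ⟨x, -, rfl⟩
          exact x.2
        have hlt1 : Z1 < Z := by
          refine lt_of_le_of_ne hle1 fun h => hs2 (Set.eq_univ_of_forall fun x => ?_)
          have h2 : (x : X) ∈ Z1 := by
            rw [h]
            exact x.2
          obtain ⟨y, hy, hyx⟩ := h2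
          rwa [← Subtype.ext hyx]
        have hlt2 : Z2 < Z := by
          refine lt_of_le_of_ne hle2 fun h => hs1.ne_empty (Set.eq_empty_of_forall_notMem fun x hx => ?_)
          have h2 : (x : X) ∈ Z2 := by
            rw [h]
            exact x.2
          obtain ⟨y, hy, hyx⟩ := h2
          rw [← Subtype.ext hyx] at hx
          exact hy hx
        have e : (⟨Z, hZ⟩ : Opens X) = ⟨Z1, ho1⟩ ⊔ ⟨Z2, ho2⟩ := by
          refine le_antisymm ?_ (sup_le hle1 hle2)
          intro x hx
          by_cases hxs : (⟨x, hx⟩ : (Z : Set X)) ∈ s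
          · exact Or.inl ⟨⟨x, hx⟩, hxs, rfl⟩
          · exact Or.inr ⟨⟨x, hx⟩, hxs, rfl⟩
        rw [e]
        refine zU_sup (eq_bot_iff.2 ?_) (ih Z1 hlt1 ho1) (ih Z2 hlt2 ho2)
        rintro x ⟨⟨y, hy, hyx⟩, ⟨z, hz, hzx⟩⟩
        have : y = z := Subtype.ext (hyx.trans hzx.symm)
        exact absurd hy (this ▸ hz)

end K205.TopRed
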