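import Groth.Prelude.Def_DeRham2
import Mathlib.AlgebraicGeometry.Morphisms.Smooth
import Mathlib.AlgebraicGeometry.Morphisms.Proper
import Mathlib.RingTheory.Artinian.Ring
import Mathlib.FieldTheory.IsAlgClosed.Basic

/-!
# The vanishing of the top differential on cohomology: the property and the local statement
-/

set_option autoImplicit false
universe u

open CategoryTheory AlgebraicGeometry

namespace K205.Loc

/-- The differential `Ω^e → Ω^(e+1)` as a map between the abelian sheaves underlying the terms. -/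
noncomputable abbrev dd {X S : Scheme.{u}} {f : X ⟶ S} {Ω' : X.Modules} {δ : OmegaSh.Der f Ω'}
    (D : DeRhamSh.Cx f Ω' δ) (e : ℕ) : Coh.toAb (D.term e) ⟶ Coh.toAb (D.term (e + 1)) :=
  (D.iso e).inv ≫ D.K.d e (e + 1) ≫ (D.iso (e + 1)).hom

/-- `d = 0` on `H^(e+1)(X, Ω^e) → H^(e+1)(X, Ω^(e+1))`. -/
def HZero {X S : Scheme.{u}} {f : X ⟶ S} {Ω' : X.Modules} {δ : OmegaSh.Der f Ω'}
    (D : DeRhamSh.Cx f Ω' δ) (e : ℕ) : Prop :=
  ∀ x : Coh.HH X (D.term e) (e + 1), Sheaf.H.map (dd D e) (e + 1) x = 0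

/-- **The local statement**: Artinian local base with algebraically closed residue field, `X` connected with a
section. -/
def LOC (e : ℕ) : Prop :=
  ∀ (A : Type u) [CommRing A] [IsArtinianRing A] [IsLocalRing A] [IsAlgClosed (IsLocalRing.ResidueField A)]
    (X : Scheme.{u}) (f : X ⟶ Spec (CommRingCat.of A)) [IsProper f] [SmoothOfRelativeDimension (e + 1) f]
    [ConnectedSpace X] (s : Spec (CommRingCat.of A) ⟶ X) (_ : s ≫ f = 𝟙 _) (D : DeRhamSh.OmegaCx f)
    (x : Coh.HH X (D.term e) (e + 1)),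
    Sheaf.H.map ((D.iso e).inv ≫ D.K.d e (e + 1) ≫ (D.iso (e + 1)).hom) (e + 1) x = 0

end K205.Loc
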