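import Groth.Agent.OmegaSh.K583.DerFunct
import Groth.Agent.Dual.H375.ExtRestr
import Groth.Agent.CohqA.HOpen
import Groth.Agent.DeRhamSh.K205.Loc
import Groth.Agent.S5005

/-!
# Restriction of a de Rham complex to an open subscheme
-/

set_option autoImplicit false
universe u

open CategoryTheory CategoryTheory.Limits AlgebraicGeometry Opposite TopologicalSpace exteriorPower

namespace K205.CxRestr

open K583.DerFunct Groth.Agent.CohqA.HOpen Groth.Agent.Dual.H375.ExtRestr Groth.Agent.Sga67.Sec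

section Loc

variable {X : Scheme.{u}} (U : X.Opens)

/-- The image of an affine open of `U`. -/
def im (W : (U : Scheme.{u}).affineOpens) : X.affineOpens :=
  ⟨U.ι ''ᵁ W.1, W.2.image_of_isOpenImmersion U.ι⟩

/-- The restricted identification. -/
noncomputable def locR {q : ℕ} {E L : X.Modules}
    (φ : ∀ W : X.affineOpens, Sec L W.1 ≃ₗ[Γ(X, W.1)] ↥(⋀[Γ(X, W.1)]^q (Sec E W.1)))
    (W : (U : Scheme.{u}).affineOpens) :
    Sec (L.restrict U.ι) W.1 ≃ₗ[Γ(U, W.1)] ↥(⋀[Γ(U, W.1)]^q (Sec (E.restrict U.ι) W.1)) :=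
  letI := modU U E W.1
  letI := modU U L W.1
  let φ0 : (Sec L (U.ι ''ᵁ W.1)) ≃ₗ[Γ(U, W.1)] (⋀[Γ(U, W.1)]^q (Sec E (U.ι ''ᵁ W.1))) := φ (im U W)
  (secEquiv U L W.1).trans (φ0.trans (extCongr q (secEquiv U E W.1)).symm)

theorem locR_symm {q : ℕ} {E L : X.Modules}
    (φ : ∀ W : X.affineOpens, Sec L W.1 ≃ₗ[Γ(X, W.1)] ↥(⋀[Γ(X, W.1)]^q (Sec E W.1)))
    (W : (U : Scheme.{u}).affineOpens) (e : Fin q → Sec (E.restrict U.ι) W.1) :
    (locR U φ W).symm (ιMulti Γ(U, W.1) q e) =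
      (φ (im U W)).symm (ιMulti Γ(X, U.ι ''ᵁ W.1) q (M := Sec E (U.ι ''ᵁ W.1)) e) := by
  let _ := modU U E W.1
  let _ := modU U L W.1
  change (secEquiv U L W.1).symm (LinearEquiv.symm (show (Sec L (U.ι ''ᵁ W.1)) ≃ₗ[Γ(U, W.1)]
    (⋀[Γ(U, W.1)]^q (Sec E (U.ι ''ᵁ W.1))) from φ (im U W)) ((extCongr q (secEquiv U E W.1))
      (ιMulti _ q e))) = _
  rw [extCongr_symm_ιMulti]
  rfl

theorem locR_symm_smul {q : ℕ} {E L : X.Modules}
    (φ : ∀ W : X.affineOpens, Sec L W.1 ≃ₗ[Γ(X, W.1)] ↥(⋀[Γ(X, W.1)]^q (Sec E W.1)))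
    (W : (U : Scheme.{u}).affineOpens) (c : Γ(X, (im U W).1)) (e : Fin q → Sec E (im U W).1)
    (c' : Γ(U, W.1)) (hc : c' = c) (e' : Fin q → Sec (E.restrict U.ι) W.1) (he : e' = e) :
    (locR U φ W).symm (c' • ιMulti Γ(U, W.1) q e') =
      (φ (im U W)).symm (c • ιMulti Γ(X, (im U W).1) q e) := by
  subst hc he
  refine (map_smul (locR U φ W).symm c' _).trans ?_
  refine (congrArg (fun x => c' • x) (locR_symm U φ W e')).trans ?_
  refine (smul_eq U L W.1 c' _).trans ?_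
  exact (map_smul (φ (im U W)).symm (show Γ(X, (im U W).1) from c') _).symm

theorem locR_symm' {q : ℕ} {E L : X.Modules}
    (φ : ∀ W : X.affineOpens, Sec L W.1 ≃ₗ[Γ(X, W.1)] ↥(⋀[Γ(X, W.1)]^q (Sec E W.1)))
    (W : (U : Scheme.{u}).affineOpens) (e : Fin q → Sec E (im U W).1)
    (e' : Fin q → Sec (E.restrict U.ι) W.1) (he : e' = e) :
    (locR U φ W).symm (ιMulti Γ(U, W.1) q e') = (φ (im U W)).symm (ιMulti Γ(X, (im U W).1) q e) := by
  subst he
  exact locR_symm U φ W e'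

end Loc

section Main

variable {X Y Y' : Scheme.{u}} {f : X ⟶ Y} (U : X.Opens) {f' : (U : Scheme.{u}) ⟶ Y'} {k : Y' ⟶ Y}
  [IsOpenImmersion k] (w : f' ≫ k = U.ι ≫ f) {Ω' : X.Modules} {δ : OmegaSh.Der f Ω'}
  (D : DeRhamSh.Cx f Ω' δ)

theorem resDer_app' (W : (U : Scheme.{u}).Opens) (b : Γ(U, W)) (b' : Γ(X, U.ι ''ᵁ W)) (hb : b = b') :
    (resDer w δ).app W b = δ.app (U.ι ''ᵁ W) b' := by
  subst hb
  rw [resDer_app, Scheme.Opens.ι_appIso]
  rfl

/-- The restriction of a de Rham complex to an open subscheme. -/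
noncomputable def restr : DeRhamSh.Cx f' (Ω'.restrict U.ι) (resDer w δ) where
  K := ((resFunctor U.ι.isOpenEmbedding).mapHomologicalComplex (ComplexShape.up ℕ)).obj D.K
  term p := (D.term p).restrict U.ι
  iso p := (resFunctor U.ι.isOpenEmbedding).mapIso (D.iso p)
  loc p W := locR U (D.loc p) W
  loc_res p W W' h e := by
    refine (congrArg _ (locR_symm U (D.loc p) W e)).trans (Eq.trans ?_ (locR_symm U (D.loc p) W' _).symm)
    exact D.loc_res p (im U W) (im U W') (Scheme.Hom.image_mono _ h) e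
  rule p W b₀ b := by
    have h1 := D.rule p (im U W) b₀ b
    have h2 := locR_symm_smul U (D.loc p) W b₀ (fun i => δ.app (im U W).1 (b i)) b₀ rfl
      (fun i => (resDer w δ).app W.1 (b i)) (funext fun i => resDer_app' U w W.1 (b i) (b i) rfl)
    have h3 := locR_symm' U (D.loc (p + 1)) W (Fin.cons (δ.app (im U W).1 b₀) (fun i => δ.app (im U W).1 (b i)))
      (Fin.cons ((resDer w δ).app W.1 b₀) (fun i => (resDer w δ).app W.1 (b i))) (by
        funext i
        refine Fin.cases ?_ (fun i => ?_) i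
        · exact resDer_app' U w W.1 b₀ b₀ rfl
        · exact resDer_app' U w W.1 (b i) (b i) rfl)
    exact Eq.trans (congrArg _ (congrArg _ h2)) (Eq.trans h1 (congrArg _ h3.symm))

theorem dd_restr (e : ℕ) : Loc.dd (restr U w D) e = (resFunctor U.ι.isOpenEmbedding).map (Loc.dd D e) := by
  change (resFunctor U.ι.isOpenEmbedding).map _ ≫ (resFunctor U.ι.isOpenEmbedding).map _ ≫
    (resFunctor U.ι.isOpenEmbedding).map _ = _
  rw [← Functor.map_comp, ← Functor.map_comp]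

end Main

section Rec

variable {X Y : Scheme.{u}} {f : X ⟶ Y} {Ω₁ Ω₂ : X.Modules} {δ₁ : OmegaSh.Der f Ω₁} {δ₂ : OmegaSh.Der f Ω₂}

/-- Sections of isomorphic modules. -/
noncomputable def secIso (e : Ω₁ ≅ Ω₂) (W : X.Opens) : Sec Ω₁ W ≃ₗ[Γ(X, W)] Sec Ω₂ W :=
  LinearEquiv.ofLinearMap (appS e.hom W) (appS e.inv W) (by ext x; simp) (by ext x; simp)

theorem secIso_apply (e : Ω₁ ≅ Ω₂) (W : X.Opens) (x : Sec Ω₁ W) : secIso e W x = appS e.hom W x := rfl

theorem secIso_symm (e : Ω₁ ≅ Ω₂) (W : X.Opens) (x : Sec Ω₂ W) : (secIso e W).symm x = appS e.inv W x := rfl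

/-- Change of the receptacle. -/
noncomputable def changeRec (e : Ω₁ ≅ Ω₂) (he : ∀ (W : X.Opens) (a : Γ(X, W)), e.hom.app W (δ₁.app W a) = δ₂.app W a)
    (D : DeRhamSh.Cx f Ω₁ δ₁) : DeRhamSh.Cx f Ω₂ δ₂ where
  K := D.K
  term := D.term
  iso := D.iso
  loc p W := (D.loc p W).trans (extCongr p (secIso e W.1))
  loc_res p W W' h s := by
    have h1 : ∀ (W : X.affineOpens) (s : Fin p → Γ(Ω₂, W.1)),
        ((D.loc p W).trans (extCongr p (secIso e W.1))).symm (ιMulti _ p s) =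
          (D.loc p W).symm (ιMulti _ p (fun i => appS e.inv W.1 (s i))) := by
      intro W s
      rw [LinearEquiv.symm_apply_eq, LinearEquiv.trans_apply, LinearEquiv.apply_symm_apply, extCongr_symm_ιMulti]
      congr 1
      funext i
      exact ((secIso e W.1).apply_symm_apply (s i)).symm
    refine (congrArg _ (h1 W s)).trans (Eq.trans ?_ (h1 W' _).symm)
    refine (D.loc_res p W W' h _).trans ?_
    refine congrArg _ (congrArg _ (funext fun i => ?_))
    exact (appS_res e.inv h (s i)).symm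
  rule p W b₀ b := by
    have h0 : ∀ (q : ℕ) (s : Fin q → Γ(Ω₁, W.1)) (s' : Fin q → Γ(Ω₂, W.1))
        (_ : ∀ i, e.hom.app W.1 (s i) = s' i),
        ((D.loc q W).trans (extCongr q (secIso e W.1))).symm (ιMulti _ q s') =
          (D.loc q W).symm (ιMulti _ q s) := by
      intro q s s' hs
      rw [LinearEquiv.symm_apply_eq, LinearEquiv.trans_apply, LinearEquiv.apply_symm_apply, extCongr_symm_ιMulti]
      congr 1
      funext i
      exact (hs i).symm
    have h1 : ∀ (q : ℕ) (c : Γ(X, W.1)) (s : Fin q → Γ(Ω₁, W.1)) (s' : Fin q → Γ(Ω₂, W.1))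
        (_ : ∀ i, e.hom.app W.1 (s i) = s' i),
        ((D.loc q W).trans (extCongr q (secIso e W.1))).symm (c • ιMulti _ q s') =
          (D.loc q W).symm (c • ιMulti _ q s) := by
      intro q c s s' hs
      exact (map_smul ((D.loc q W).trans (extCongr q (secIso e W.1))).symm c _).trans
        ((congrArg (fun x => c • x) (h0 q s s' hs)).trans (map_smul (D.loc q W).symm c _).symm)
    have h2 := h1 p b₀ (fun i => δ₁.app W.1 (b i)) (fun i => δ₂.app W.1 (b i)) (fun i => he _ _)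
    have h3 := h0 (p + 1) (Fin.cons (δ₁.app W.1 b₀) (fun i => δ₁.app W.1 (b i)))
      (Fin.cons (δ₂.app W.1 b₀) (fun i => δ₂.app W.1 (b i))) (by
        intro i
        refine Fin.cases ?_ (fun i => ?_) i
        · exact he _ _
        · exact he _ _)
    exact Eq.trans (congrArg _ (congrArg _ h2)) (Eq.trans (D.rule p W b₀ b) (congrArg _ h3.symm))

end Rec

section Omega

variable {X Y Y' : Scheme.{u}} {f : X ⟶ Y} [QuasiSeparated f] (U : X.Opens) {f' : (U : Scheme.{u}) ⟶ Y'} {k : Y' ⟶ Y}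
  [IsOpenImmersion k] (w : f' ≫ k = U.ι ≫ f) [QuasiSeparated f']

include w in
/-- **Restriction of the de Rham complex to an open subscheme.** -/
theorem exists_restr (D : DeRhamSh.OmegaCx f) (e : ℕ) :
    ∃ (D' : DeRhamSh.OmegaCx f'), (∀ p, D'.term p = (D.term p).restrict U.ι) ∧
      (Loc.HZero D' e → ∀ x : Sheaf.H ((resFunctor U.ι.isOpenEmbedding).obj (Coh.toAb (D.term e))) (e + 1),
        Sheaf.H.map ((resFunctor U.ι.isOpenEmbedding).map (Loc.dd D e)) (e + 1) x = 0) := by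
  obtain ⟨i, hi⟩ := exists_iso_of_isUniversal
    (isUniversal_resDer w (d := OmegaSh.dOmega f) (Groth.Agent.S5005.result f))
    (d' := OmegaSh.dOmega f') (Groth.Agent.S5005.result f')
  refine ⟨changeRec i hi (restr U w D), fun p => rfl, fun h x => ?_⟩
  rw [← dd_restr U w D e]
  exact h x

end Omega

end K205.CxRestr
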