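import Groth.Agent.DeRhamSh.K205.RedNoeth

/-!
# Reduction of the vanishing of the top differential to Noetherian rings
-/

set_option autoImplicit false
universe u

open CategoryTheory CategoryTheory.Limits AlgebraicGeometry Opposite TopologicalSpace TensorProduct

namespace K205.RedModel

open Groth.Agent.Ega3B Groth.Agent.Ega3B.CombRes K205.RedAlg K205.Rows K205.RedNoeth

attribute [local instance 3000] LocExact.hasSheafify

/-- The property `HZero` for a base change does not depend on the de Rham complexes. -/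
theorem pv_of_noeth (e : ℕ) (H : ∀ (B : Type u) [CommRing B] [IsNoetherianRing B], PV B e)
    (A : Type u) [CommRing A]
    (hmodel : ∀ {X : Scheme.{u}} (f : X ⟶ Spec (CommRingCat.of A)) [IsProper f] [SmoothOfRelativeDimension (e + 1) f],
      ∃ (A₀ : Type u) (_ : CommRing A₀) (_ : IsNoetherianRing A₀) (_ : Algebra A₀ A) (X₀ : Scheme.{u})
        (f₀ : X₀ ⟶ Spec (CommRingCat.of A₀)) (q : X ⟶ X₀), IsProper f₀ ∧ SmoothOfRelativeDimension (e + 1) f₀ ∧
          IsPullback q f f₀ (Spec.map (CommRingCat.ofHom (algebraMap A₀ A)))) : PV A e := by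
  intro X f _ _ D
  obtain ⟨A₀, _, hN, _, X₀, f₀, q, hp, hs, sq⟩ := hmodel f
  have hsm : Smooth f := SmoothOfRelativeDimension.smooth (e + 1) f
  have hsm₀ : Smooth f₀ := SmoothOfRelativeDimension.smooth (e + 1) f₀
  have hsep : X₀.IsSeparated := (HasAffineProperty.iff_of_isAffine (P := @IsSeparated) (f := f₀)).mp inferInstance
  have hcpt : CompactSpace X₀ := QuasiCompact.compactSpace_of_compactSpace f₀
  obtain ⟨n₀, U, hU, hW⟩ := K890.RankBC.exists_datum X₀
  have hd₀ := Groth.Agent.S5005.result f₀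
  have hd := Groth.Agent.S5005.result f
  obtain ⟨D₀⟩ := K904.LogCxT.nonempty_cx_univ hd₀
  have h₀ := K904.LogCxT.termwiseLinear_univ hd₀ D₀
  have h := K904.LogCxT.termwiseLinear_univ hd D
  refine (zz_iff_hZero sq hd₀ hd D₀ D h₀ h _ hW (K890.BcTot.comapD_cech_locGood _ U hU)
      (fun a => K853.Terms.isQCoh_term D a) e).1 (ZZ.of_fg fun S hS => ?_)
  have hft : Algebra.FiniteType A₀ S := (Subalgebra.fg_iff_finiteType S).1 hS
  have hSN : IsNoetherianRing S := Algebra.FiniteType.isNoetherianRing A₀ S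
  have sq' := IsPullback.of_hasPullback f₀ (Spec.map (CommRingCat.ofHom (algebraMap A₀ S)))
  have _ := smoothOfRelativeDimension_isStableUnderBaseChange (e + 1)
  have hs' : SmoothOfRelativeDimension (e + 1) (pullback.snd f₀ (Spec.map (CommRingCat.ofHom (algebraMap A₀ S)))) :=
    MorphismProperty.pullback_snd (P := @SmoothOfRelativeDimension (e + 1)) _ _ inferInstance
  have hsm' : Smooth (pullback.snd f₀ (Spec.map (CommRingCat.ofHom (algebraMap A₀ S)))) :=
    SmoothOfRelativeDimension.smooth (e + 1) _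
  have hd' := Groth.Agent.S5005.result (pullback.snd f₀ (Spec.map (CommRingCat.ofHom (algebraMap A₀ S))))
  obtain ⟨D'⟩ := K904.LogCxT.nonempty_cx_univ hd'
  have h' := K904.LogCxT.termwiseLinear_univ hd' D'
  exact (zz_iff_hZero sq' hd₀ hd' D₀ D' h₀ h' _ hW (K890.BcTot.comapD_cech_locGood _ U hU)
      (fun a => K853.Terms.isQCoh_term D' a) e).2 (H S _ _ D')

end K205.RedModel
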