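import Groth.Agent.DeRhamSh.K205.RedConn
import Groth.Agent.DeRhamSh.K205.RedModel
import Groth.Agent.DeRhamSh.K184.Sect
import Groth.Agent.DeRhamSh.K494.NoethModel

/-!
# The vanishing of the top differential over arbitrary rings, from the local statement
-/

set_option autoImplicit false
universe u

open AlgebraicGeometry

namespace K205.RedAff

/-- **The vanishing over an arbitrary ring follows from the local statement.** -/
theorem pv (e : ℕ) (hLOC : Loc.LOC.{u} e) (A : Type u) [CommRing A] : RedNoeth.PV A e :=
  RedModel.pv_of_noeth e (fun B _ _ => RedNoeth.pv_of_artin e (fun B _ _ _ _ =>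
    RedConn.pv_of_loc e hLOC B fun _ f _ _ => K184.Sect.exists_section f) B) A
    fun f _ _ => K494.NoethModel.main f (e + 1)

end K205.RedAff
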