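import Groth.Agent.Ega3B.FlatCxB
import Groth.Agent.VarietyB.BCAlg
import Mathlib.RingTheory.TensorProduct.DirectLimitFG
import Mathlib.RingTheory.Flat.FaithfullyFlat.Algebra
import Mathlib.RingTheory.Filtration

/-!
# Base change of a vanishing statement on cohomology: algebra

`ZZ B dP dQ ψ`: every `x ∈ B ⊗ P` with `d x = 0` satisfies `ψ x ∈ d (B ⊗ Q₀)`.
* `ZZ.of_fg`: it suffices to know it for finitely generated subalgebras;
* `zz_of_artin`: over a Noetherian ring it suffices to know it for faithfully flat algebras over `A / 𝔪 ^ k`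
  (`Q` a bounded flat complex, exact above the degree in question and with finite cohomology in this degree).
-/

set_option autoImplicit false
universe u

open TensorProduct

namespace K205.RedAlg

open Groth.Agent.Ega3B.FlatCxB Groth.Agent.VarietyB.BCAlg

section ZZ

variable {A : Type u} [CommRing A] {P P₁ Q₀ Q : Type u} [AddCommGroup P] [Module A P] [AddCommGroup P₁] [Module A P₁]
  [AddCommGroup Q₀] [Module A Q₀] [AddCommGroup Q] [Module A Q]
  (dP : P →ₗ[A] P₁) (dQ : Q₀ →ₗ[A] Q) (ψ : P →ₗ[A] Q)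

/-- The vanishing statement after base change to `B`. -/
def ZZ (B : Type u) [CommRing B] [Algebra A B] : Prop :=
  ∀ x : B ⊗[A] P, dP.lTensor B x = 0 → ∃ y : B ⊗[A] Q₀, dQ.lTensor B y = ψ.lTensor B x

variable {dP dQ ψ}

/-- Reduction to finitely generated subalgebras. -/
theorem ZZ.of_fg {B : Type u} [CommRing B] [Algebra A B] (h : ∀ S : Subalgebra A B, S.FG → ZZ dP dQ ψ S) :
    ZZ dP dQ ψ B := by
  intro x hx
  obtain ⟨S, hS, u, hu, rfl⟩ := Submodule.exists_fg_of_baseChange_eq_zero (S := B) dP (t := x) hx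
  obtain ⟨y, hy⟩ := h S hS u hu
  refine ⟨S.val.toLinearMap.rTensor Q₀ y, ?_⟩
  have h1 : ∀ {M N : Type u} [AddCommGroup M] [AddCommGroup N] [Module A M] [Module A N] (f : M →ₗ[A] N)
      (z : S ⊗[A] M), f.lTensor B (S.val.toLinearMap.rTensor M z) =
        S.val.toLinearMap.rTensor N (f.lTensor S z) := by
    intro M N _ _ _ _ f z
    rw [← LinearMap.comp_apply, ← LinearMap.comp_apply, LinearMap.lTensor_comp_rTensor,
      LinearMap.rTensor_comp_lTensor]
  rw [h1, h1, hy]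

/-- Transport of the property to a concrete base change. -/
theorem zz_iff {B : Type u} [CommRing B] [Algebra A B] {P' P₁' Q₀' Q' : Type u} [AddCommGroup P'] [Module B P']
    [AddCommGroup P₁'] [Module B P₁'] [AddCommGroup Q₀'] [Module B Q₀'] [AddCommGroup Q'] [Module B Q']
    {dP' : P' →ₗ[B] P₁'} {dQ' : Q₀' →ₗ[B] Q'} {ψ' : P' →ₗ[B] Q'}
    (sP : P →ₛₗ[algebraMap A B] P') (sP₁ : P₁ →ₛₗ[algebraMap A B] P₁') (sQ₀ : Q₀ →ₛₗ[algebraMap A B] Q₀')
    (sQ : Q →ₛₗ[algebraMap A B] Q')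
    (h1 : ∀ m, dP' (sP m) = sP₁ (dP m)) (h2 : ∀ m, dQ' (sQ₀ m) = sQ (dQ m)) (h3 : ∀ m, ψ' (sP m) = sQ (ψ m))
    (bP : Function.Bijective (bc sP)) (bP₁ : Function.Bijective (bc sP₁)) (bQ₀ : Function.Bijective (bc sQ₀))
    (bQ : Function.Bijective (bc sQ)) :
    ZZ dP dQ ψ B ↔ ∀ x, dP' x = 0 → ∃ y, dQ' y = ψ' x := by
  constructor
  · intro H x' hx'
    obtain ⟨x, rfl⟩ := bP.2 x'
    rw [bc_comm sP sP₁ dP dP' h1] at hx'
    obtain ⟨y, hy⟩ := H x (bP₁.1 (hx'.trans (map_zero _).symm))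
    refine ⟨bc sQ₀ y, ?_⟩
    rw [bc_comm sQ₀ sQ dQ dQ' h2, hy, bc_comm sP sQ ψ ψ' h3]
  · intro H x hx
    obtain ⟨y', hy'⟩ := H (bc sP x) (by rw [bc_comm sP sP₁ dP dP' h1, hx, map_zero])
    obtain ⟨y, rfl⟩ := bQ₀.2 y'
    refine ⟨y, bQ.1 ?_⟩
    rw [← bc_comm sQ₀ sQ dQ dQ' h2, hy', bc_comm sP sQ ψ ψ' h3]

theorem ZZ.self (h : ZZ dP dQ ψ A) (x : P) (hx : dP x = 0) : ∃ y, dQ y = ψ x := by
  obtain ⟨y, hy⟩ := h (1 ⊗ₜ x) (by rw [LinearMap.lTensor_tmul, hx, tmul_zero])
  refine ⟨TensorProduct.lid A Q₀ y, ?_⟩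
  have h1 : ∀ z : A ⊗[A] Q₀, dQ (TensorProduct.lid A Q₀ z) = TensorProduct.lid A Q (dQ.lTensor A z) := by
    intro z
    induction z with
    | zero => simp
    | add a b ha hb => rw [map_add, map_add, ha, hb, map_add, map_add]
    | tmul a m => simp
  rw [h1, hy, LinearMap.lTensor_tmul, TensorProduct.lid_tmul, one_smul]

end ZZ

section Krull

variable {A : Type u} [CommRing A] {M : Type u} [AddCommGroup M] [Module A M]

/-- An element killed by a faithfully flat algebra over `A / I` lies in `I M`. -/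
theorem mem_smul_of_tmul_eq_zero (I : Ideal A) (B : Type u) [CommRing B] [Algebra A B] [Algebra (A ⧸ I) B]
    [IsScalarTower A (A ⧸ I) B] [Module.FaithfullyFlat (A ⧸ I) B] (m : M) (h : (1 : B) ⊗ₜ[A] m = 0) :
    m ∈ (I • ⊤ : Submodule A M) := by
  let N := M ⧸ (I • ⊤ : Submodule A M)
  let f : B ⊗[A] M →+ B ⊗[A ⧸ I] N := TensorProduct.liftAddHom
    { toFun := fun b =>
        { toFun := fun m => b ⊗ₜ[A ⧸ I] (Submodule.Quotient.mk m : N)
          map_zero' := by rw [Submodule.Quotient.mk_zero, tmul_zero]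
          map_add' := fun x y => by rw [Submodule.Quotient.mk_add, tmul_add] }
      map_zero' := by ext; exact zero_tmul _ _
      map_add' := fun x y => by ext; exact add_tmul _ _ _ } (by
        intro a b m
        change (a • b) ⊗ₜ[A ⧸ I] (Submodule.Quotient.mk m : N) = b ⊗ₜ[A ⧸ I] (Submodule.Quotient.mk (a • m) : N)
        have h1 : a • b = (Ideal.Quotient.mk I a) • b := by
          rw [Algebra.smul_def, Algebra.smul_def, IsScalarTower.algebraMap_apply A (A ⧸ I) B]
          rfl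
        rw [h1, smul_tmul]
        rfl)
  have h1 : (1 : B) ⊗ₜ[A ⧸ I] (Submodule.Quotient.mk m : N) = 0 := by
    have h2 : f ((1 : B) ⊗ₜ[A] m) = 0 := by rw [h, map_zero]
    exact h2
  have h3 := Module.FaithfullyFlat.tensorProduct_mk_injective (A := A ⧸ I) (B := B) N
    (a₁ := Submodule.Quotient.mk m) (a₂ := 0) (by rw [map_zero]; exact h1)
  exact (Submodule.Quotient.mk_eq_zero _).1 h3

/-- Krull: an element of a finite module over a Noetherian ring lying in `𝔪 ^ k M` for all `𝔪`, `k` is zero. -/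
theorem eq_zero_of_forall_mem [IsNoetherianRing A] [Module.Finite A M] (m : M)
    (h : ∀ I : Ideal A, I.IsMaximal → ∀ k : ℕ, m ∈ (I ^ k • ⊤ : Submodule A M)) : m = 0 := by
  by_contra h0
  have h1 : Ideal.torsionOf A M m ≠ ⊤ := by rwa [Ne, Ideal.torsionOf_eq_top_iff]
  obtain ⟨I, hI, hle⟩ := Ideal.exists_le_maximal _ h1
  obtain ⟨r, hr⟩ := (I.mem_iInf_smul_pow_eq_bot_iff m).1 ((Submodule.mem_iInf _).2 (h I hI))
  have h2 : 1 - (r : A) ∈ Ideal.torsionOf A M m := by
    rw [Ideal.mem_torsionOf_iff, sub_smul, one_smul, hr, sub_self]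
  exact hI.ne_top ((Ideal.eq_top_iff_one I).2 (by simpa using I.add_mem (hle h2) r.2))

end Krull

section Top

variable {A : Type u} [CommRing A] {C : ℕ → Type u} [∀ p, AddCommGroup (C p)] [∀ p, Module A (C p)]
  {d : ∀ p, C p →ₗ[A] C (p + 1)} (hd : ∀ p, d (p + 1) ∘ₗ d p = 0) (hC : ∀ p, Module.Flat A (C p)) (m : ℕ)
  (hm : ∀ p, m ≤ p → Subsingleton (C p)) (n : ℕ) (hn : ∀ p, n < p → ∀ z, d p z = 0 → z ∈ bdry d p)

include hd hC hm hn in
/-- The boundaries above the last cohomology are flat. -/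
theorem flat_bdry_of_lt (p : ℕ) (hp : n < p) : Module.Flat A (bdry d p) := by
  by_cases hp' : m ≤ p
  · have := hm p hp'
    infer_instance
  · have key : ∀ k, ∀ p, n < p → p + k = m → Module.Flat A (bdry d p) := by
      intro k
      induction k with
      | zero =>
        intro p _ hpk
        have := hm p (by omega)
        infer_instance
      | succ k ih =>
        intro p hnp hpk
        have h1 := ih (p + 1) (by omega) (by omega)
        have h2 : Module.Flat A (LinearMap.ker (d p)) :=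
          flat_of_exact (LinearMap.ker (d p)).subtype (toB d p) (Submodule.subtype_injective _)
            (toB_surjective p) (exact_toB p) (hC p) h1
        have h3 : bdry d p = LinearMap.ker (d p) :=
          le_antisymm (bdry_le_ker hd p) fun z hz => hn p hnp z hz
        rw [h3]
        exact h2
    exact key (m - p) p hp (by omega)

variable {P P₁ : Type u} [AddCommGroup P] [Module A P] [AddCommGroup P₁] [Module A P₁] {dP : P →ₗ[A] P₁} {e : ℕ}
  {ψ : P →ₗ[A] C (e + 1)} (hψ : ∀ x, dP x = 0 → d (e + 1) (ψ x) = 0)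

variable (hn' : ∀ p, e + 1 < p → ∀ z, d p z = 0 → z ∈ bdry d p)

include hd hC hm hn' in
/-- If the image of a cocycle in `B ⊗ C` is a coboundary, so is its class in `B ⊗ H`. -/
theorem tmul_mkQ_eq_zero (B : Type u) [CommRing B] [Algebra A B] (z : LinearMap.ker (d (e + 1)))
    (y : B ⊗[A] C e) (hy : (d e).lTensor B y = 1 ⊗ₜ z.1) :
    (1 : B) ⊗ₜ[A] (bz d (e + 1)).mkQ z = 0 := by
  have hfl := flat_bdry_of_lt hd hC m hm (e + 1) hn' (e + 2) (by omega)
  have hinj : Function.Injective ((LinearMap.ker (d (e + 1))).subtype.lTensor B) :=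
    LinearMap.lTensor_injective_of_exact_of_flat (toB d (e + 1)) (toB_surjective (e + 1)) _
      (Submodule.subtype_injective _) (exact_toB (e + 1)) B
  let g : C e →ₗ[A] LinearMap.ker (d (e + 1)) := (d e).codRestrict _ fun x => LinearMap.congr_fun (hd e) x
  have h1 : g.lTensor B y = 1 ⊗ₜ z := by
    apply hinj
    rw [← LinearMap.comp_apply, ← LinearMap.lTensor_comp]
    have h2 : (LinearMap.ker (d (e + 1))).subtype ∘ₗ g = d e := rfl
    rw [h2, hy]
    rfl
  have h2 : (bz d (e + 1)).mkQ ∘ₗ g = 0 := by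
    ext x
    exact (Submodule.Quotient.mk_eq_zero _).2 ⟨x, rfl⟩
  have h3 := congrArg ((bz d (e + 1)).mkQ.lTensor B) h1
  rw [← LinearMap.comp_apply, ← LinearMap.lTensor_comp, h2, LinearMap.lTensor_zero, LinearMap.zero_apply] at h3
  exact h3.symm

include hd hC hm hn' hψ in
/-- **Reduction to Artinian rings.** -/
theorem zz_of_artin [IsNoetherianRing A] [Module.Finite A (LinearMap.ker (d (e + 1)) ⧸ bz d (e + 1))]
    (H : ∀ I : Ideal A, I.IsMaximal → ∀ k : ℕ, k ≠ 0 → ∃ (B : Type u) (_ : CommRing B) (_ : Algebra A B)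
      (_ : Algebra (A ⧸ I ^ k) B) (_ : IsScalarTower A (A ⧸ I ^ k) B), Module.FaithfullyFlat (A ⧸ I ^ k) B ∧
        ZZ dP (d e) ψ B) (x : P) (hx : dP x = 0) : ∃ y, d e y = ψ x := by
  let z : LinearMap.ker (d (e + 1)) := ⟨ψ x, hψ x hx⟩
  have h1 : (bz d (e + 1)).mkQ z = 0 := by
    refine eq_zero_of_forall_mem (A := A) (M := LinearMap.ker (d (e + 1)) ⧸ bz d (e + 1)) _ fun I hI k => ?_
    by_cases hk : k = 0
    · subst hk
      simp
    · obtain ⟨B, _, _, _, _, hB, hZ⟩ := H I hI k hk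
      obtain ⟨y, hy⟩ := hZ (1 ⊗ₜ x) (by rw [LinearMap.lTensor_tmul, hx, tmul_zero])
      refine mem_smul_of_tmul_eq_zero (I ^ k) B _ ?_
      exact tmul_mkQ_eq_zero hd hC m hm hn' B z y (by rw [hy, LinearMap.lTensor_tmul])
  obtain ⟨y, hy⟩ := (Submodule.Quotient.mk_eq_zero _).1 h1
  exact ⟨y, hy⟩

end Top

end K205.RedAlg
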