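import Groth.Agent.DeRhamSh.K205.Rows
import Groth.Agent.DeRhamSh.K205.ArtAlg
import Groth.Agent.DeRhamSh.K853.Terms
import Groth.Agent.DelIll.K890.RankBC
import Groth.Agent.Flat2G.NoethVanish
import Groth.Agent.Lefpen.H716.CIGeom
import Groth.Agent.Flat2B.GExEnd
import Groth.Agent.Sga2lef.H298.VanX0Core
import Groth.Agent.PerfA.CohSerre
import Groth.Agent.S0002
import Groth.Agent.S5005

/-!
# Reduction of the vanishing of the top differential to Artinian local rings
-/

set_option autoImplicit false
universe u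

open CategoryTheory CategoryTheory.Limits AlgebraicGeometry Opposite TopologicalSpace TensorProduct

namespace K205.RedNoeth

open Groth.Agent.Ega3B Groth.Agent.Ega3B.CombRes K205.RedAlg K205.Rows
open Groth.Agent.CohqA.BCPull (toU)

attribute [local instance 3000] LocExact.hasSheafify

/-- The vanishing for all proper smooth schemes of relative dimension `e + 1` over `A`. -/
def PV (A : Type u) [CommRing A] (e : ℕ) : Prop :=
  ∀ (X : Scheme.{u}) (f : X ⟶ Spec (CommRingCat.of A)) [IsProper f] [SmoothOfRelativeDimension (e + 1) f]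
    (D : DeRhamSh.OmegaCx f), Loc.HZero D e

section Flat

variable {A : Type u} [CommRing A] {X : Scheme.{u}} (f : X ⟶ Spec (CommRingCat.of A))

/-- Čech cochains of a flat quasi-coherent module are flat. -/
theorem flat_C (𝔇 : Data X.toPresheafedSpace.carrier) (hW : ∀ n b, IsAffineOpen (X := X) (𝔇.W n b)) (M : X.Modules)
    (hq : Coh.IsQCoh M) (hfl : FlatMod.IsFlatOver f M) (n : ℕ) :
    Module.Flat A (CombMod.C (Coh.toGlobal f) 𝔇 M n) := by
  let _ := fun b : 𝔇.B n => modS f M (𝔇.W n b)
  have h1 : ∀ b : 𝔇.B n, Module.Flat A Γ(M, 𝔇.W n b) := fun b => by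
    have h2 := Groth.Agent.Flat2B.GEx.flat_sections f M hq hfl (hW n b)
    exact h2
  have : Module.Flat A (Π₀ b : 𝔇.B n, Γ(M, 𝔇.W n b)) := inferInstance
  have h2 : Module.Flat A (∀ b : 𝔇.B n, Γ(M, 𝔇.W n b)) :=
    Module.Flat.of_linearEquiv (DFinsupp.linearEquivFunOnFintype (M := fun b : 𝔇.B n => Γ(M, 𝔇.W n b)) (R := A)).symm
  exact Module.Flat.of_linearEquiv (piE f 𝔇 M n)

end Flat

section Dim

/-- The fibres of a smooth morphism of relative dimension `n` have dimension at most `n`. -/
theorem topologicalKrullDim_fiber_le {X Y : Scheme.{u}} (f : X ⟶ Y) (n : ℕ) [SmoothOfRelativeDimension n f] (y : Y) :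
    topologicalKrullDim ↥(f.fiber y) ≤ n := by
  have _ := smoothOfRelativeDimension_isStableUnderBaseChange n
  have : SmoothOfRelativeDimension n (f.fiberToSpecResidueField y) :=
    MorphismProperty.pullback_snd (P := @SmoothOfRelativeDimension n) _ _ inferInstance
  exact @Groth.Agent.Lefpen.H716.CIGeom.topologicalKrullDim_le_of_smooth (Y.residueField y) _ n _
    (f.fiberToSpecResidueField y) this

end Dim

/-- **Reduction to Artinian local rings with algebraically closed residue field.** -/
theorem pv_of_artin (e : ℕ) (H : ∀ (B : Type u) [CommRing B] [IsArtinianRing B] [IsLocalRing B]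
    [IsAlgClosed (IsLocalRing.ResidueField B)], PV B e) (A : Type u) [CommRing A] [IsNoetherianRing A] : PV A e := by
  intro X f _ _ D
  have hsm : Smooth f := SmoothOfRelativeDimension.smooth (e + 1) f
  have hsep : X.IsSeparated := (HasAffineProperty.iff_of_isAffine (P := @IsSeparated) (f := f)).mp inferInstance
  have hcpt : CompactSpace X := QuasiCompact.compactSpace_of_compactSpace f
  obtain ⟨n₀, U, hU, hW⟩ := K890.RankBC.exists_datum X
  have hD := CubeData.cech_locGood (X := X.toPresheafedSpace.carrier) U hU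
  have hq : ∀ a, Coh.IsQCoh (D.term a) := fun a => K853.Terms.isQCoh_term D a
  have hlf : ∀ a, FlatMod.IsFinLocFree (D.term a) := fun a =>
    K853.Terms.isFinLocFree_term (K853.Terms.isFinLocFree_omega f) D a
  have hd := Groth.Agent.S5005.result f
  have h := K904.LogCxT.termwiseLinear_univ hd D
  have hln : IsLocallyNoetherian X := LocallyOfFiniteType.isLocallyNoetherian f
  rw [hZero_iff D h hD hW hq e]
  let _ : X.Over (Spec (CommRingCat.of A)) := ⟨f⟩
  have _ : IsProper (X ↘ Spec (CommRingCat.of A)) := ‹IsProper f›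
  have hfin : Module.Finite A (Coh.HH X (D.term (e + 1)) (e + 1)) :=
    Groth.Agent.S0002.result A X (D.term (e + 1)) (Groth.Agent.PerfA.CohSerre.isCoh_of_isFinLocFree (hlf _)) (e + 1)
  obtain ⟨θ, hθs, hθ0⟩ := FlatCohBC.exists_theta_lin A (CubeData.cech (X := X.toPresheafedSpace.carrier) U) hD
    (D.term (e + 1)) (hq _) hW (e + 1)
  have hfinq : Module.Finite A (LinearMap.ker (CombMod.d (Coh.toGlobal f)
      (CubeData.cech (X := X.toPresheafedSpace.carrier) U) (D.term (e + 1)) (e + 1)) ⧸
      FlatCxB.bz (CombMod.d (Coh.toGlobal f) (CubeData.cech (X := X.toPresheafedSpace.carrier) U)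
        (D.term (e + 1))) (e + 1)) := by
    have hker : FlatCxB.bz (CombMod.d (Coh.toGlobal f) (CubeData.cech (X := X.toPresheafedSpace.carrier) U)
        (D.term (e + 1))) (e + 1) = LinearMap.ker θ := by
      ext z
      exact (hθ0 z).symm
    exact Module.Finite.equiv ((Submodule.quotEquivOfEq _ _ hker).trans (θ.quotKerEquivOfSurjective hθs)).symm
  refine zz_of_artin (C := fun p => CombMod.C (Coh.toGlobal f) (CubeData.cech (X := X.toPresheafedSpace.carrier) U)
    (D.term (e + 1)) p) (d := CombMod.d (Coh.toGlobal f) (CubeData.cech (X := X.toPresheafedSpace.carrier) U)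
    (D.term (e + 1))) (CombMod.d_comp_d _ _ _) (fun p => flat_C f _ hW _ (hq _)
      (Groth.Agent.Sga2lef.H298.VanX0Core.isFlatOver_of_isFinLocFree f (hlf _)) p) n₀ (fun p hp => ?_)
      (dP := CombMod.d (Coh.toGlobal f) (CubeData.cech (X := X.toPresheafedSpace.carrier) U) (D.term e) (e + 1))
      (fun x hx => ?_) (fun p hp z hz => ?_) (fun I hI k hk => ?_)
  · have := K890.RankBC.isEmpty_B U p hp
    exact inferInstanceAs (Subsingleton (∀ b : (CubeData.cech (X := X.toPresheafedSpace.carrier) U).B p, _))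
  · rw [d_psi, hx, map_zero]
  · obtain ⟨θ', -, hθ'⟩ := FlatCohBC.exists_theta_lin A (CubeData.cech (X := X.toPresheafedSpace.carrier) U) hD
      (D.term (e + 1)) (hq _) hW p
    have hsub : Subsingleton (Coh.HH X (D.term (e + 1)) p) :=
      Groth.Agent.Flat2G.NoethVanish.subsingleton_HH f (e + 1) (topologicalKrullDim_fiber_le f (e + 1))
        (D.term (e + 1)) (hq _) p hp
    exact (hθ' ⟨z, hz⟩).1 (Subsingleton.elim _ _)
  · obtain ⟨B, iB, iA, iQ, iS, hff, hart, hloc, hcl⟩ := ArtAlg.exists_alg A I hI k hk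
    refine ⟨B, iB, iA, iQ, iS, hff, ?_⟩
    have sq := IsPullback.of_hasPullback f (Spec.map (CommRingCat.ofHom (algebraMap A B)))
    have _ := smoothOfRelativeDimension_isStableUnderBaseChange (e + 1)
    have hs' : SmoothOfRelativeDimension (e + 1) (pullback.snd f (Spec.map (CommRingCat.ofHom (algebraMap A B)))) :=
      MorphismProperty.pullback_snd (P := @SmoothOfRelativeDimension (e + 1)) _ _ inferInstance
    have hsm' : Smooth (pullback.snd f (Spec.map (CommRingCat.ofHom (algebraMap A B)))) :=
      SmoothOfRelativeDimension.smooth (e + 1) _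
    have hd' := Groth.Agent.S5005.result (pullback.snd f (Spec.map (CommRingCat.ofHom (algebraMap A B))))
    obtain ⟨D'⟩ := K904.LogCxT.nonempty_cx_univ hd'
    have h' := K904.LogCxT.termwiseLinear_univ hd' D'
    exact (zz_iff_hZero sq hd hd' D D' h h' _ hW (K890.BcTot.comapD_cech_locGood _ U hU)
      (fun a => K853.Terms.isQCoh_term D' a) e).2 (H B _ _ D')

end K205.RedNoeth
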