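import Groth.Agent.DeRhamSh.K205.ConnRed
import Groth.Agent.DeRhamSh.K205.CxRestr
import Groth.Agent.DeRhamSh.K205.RedNoeth

/-!
# Reduction of the vanishing over Artinian local rings to connected schemes with a section
-/

set_option autoImplicit false
universe u

open CategoryTheory CategoryTheory.Limits AlgebraicGeometry Opposite TopologicalSpace

namespace K205.RedConn

open K205.TopRed K205.RedNoeth

/-- **Reduction to connected schemes.** -/
theorem pv_of_loc (e : ℕ) (hLOC : Loc.LOC.{u} e) (B : Type u) [CommRing B] [IsArtinianRing B] [IsLocalRing B]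
    [IsAlgClosed (IsLocalRing.ResidueField B)]
    (hsec : ∀ (X : Scheme.{u}) (f : X ⟶ Spec (CommRingCat.of B)) [Smooth f] [Nonempty X],
      ∃ s : Spec (CommRingCat.of B) ⟶ X, s ≫ f = 𝟙 _) : PV B e := by
  intro X f _ _ D x
  have : IsLocallyNoetherian X := LocallyOfFiniteType.isLocallyNoetherian f
  have : CompactSpace X := QuasiCompact.compactSpace_of_compactSpace f
  have : IsNoetherian X := {}
  refine eq_zero_of_zU_top (zU_of_conn fun U hU hconn => ?_) x
  change X.Opens at U
  have _ : IsClosedImmersion U.ι := IsClosedImmersion.of_isPreimmersion U.ι (by simpa using hU)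
  have _ : SmoothOfRelativeDimension (e + 1) (U.ι ≫ f) := by
    have : SmoothOfRelativeDimension (0 + (e + 1)) (U.ι ≫ f) := inferInstance
    rwa [zero_add] at this
  have _ : Smooth (U.ι ≫ f) := SmoothOfRelativeDimension.smooth (e + 1) _
  have _ : ConnectedSpace (U : Scheme.{u}) := hconn
  obtain ⟨s, hs⟩ := hsec (U : Scheme.{u}) (U.ι ≫ f)
  obtain ⟨D', -, hD'⟩ := CxRestr.exists_restr U (f' := U.ι ≫ f) (k := 𝟙 _) (Category.comp_id _) D e
  exact zU_of_resFunctor U.ι.isOpenEmbedding (hD' fun x => hLOC B (U : Scheme.{u}) (U.ι ≫ f) s hs D' x) U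
    (U.ι_image_top).symm

end K205.RedConn
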