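import Groth.Agent.CohtopB.RPushExt
import Groth.Prelude.Def_CohTop
import Mathlib.Topology.Sheaves.Stalks

/-!
# Maps inducing zero on higher direct images
-/

set_option autoImplicit false
universe u

open CategoryTheory Limits Opposite TopologicalSpace Abelian

namespace K205.RpushZero

/-- The sheafification of a map which is locally zero is zero. -/
theorem map_eq_zero_of_locally {Y : TopCat.{u}} {P Q : (Opens Y)ᵒᵖ ⥤ AddCommGrpCat.{u}} (α : P ⟶ Q)
    (h : ∀ (V : Opens Y) (y : Y) (_ : y ∈ V), ∃ (W : Opens Y) (_ : W ≤ V), y ∈ W ∧ α.app (op W) = 0) :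
    (presheafToSheaf (Opens.grothendieckTopology Y) AddCommGrpCat.{u}).map α = 0 := by
  apply ((sheafificationAdjunction (Opens.grothendieckTopology Y) AddCommGrpCat.{u}).homEquiv _ _).injective
  rw [Adjunction.homEquiv_unit, Adjunction.homEquiv_unit, Functor.map_zero, comp_zero]
  refine ((sheafificationAdjunction (Opens.grothendieckTopology Y) AddCommGrpCat.{u}).unit.naturality α).symm.trans ?_
  set F := (presheafToSheaf (Opens.grothendieckTopology Y) AddCommGrpCat.{u}).obj Q
  let β : P ⟶ F.obj := α ≫ (sheafificationAdjunction (Opens.grothendieckTopology Y) AddCommGrpCat.{u}).unit.app Q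
  change β = 0
  ext V s
  induction V using Opposite.rec with | op V => ?_
  refine TopCat.Presheaf.section_ext F V _ _ fun x hx => ?_
  obtain ⟨W, hWV, hxW, h0⟩ := h V x hx
  have h1 := TopCat.Presheaf.germ_res_apply (C := AddCommGrpCat.{u}) (X := Y) F.obj (homOfLE hWV) x hxW
    (β.app (op V) s)
  have h2 : F.obj.map (homOfLE hWV).op (β.app (op V) s) = β.app (op W) (P.map (homOfLE hWV).op s) :=
    (NatTrans.naturality_apply β (homOfLE hWV).op s).symm
  have h3 : β.app (op W) = 0 := by
    change α.app (op W) ≫ _ = 0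
    rw [h0, zero_comp]
  refine h1.symm.trans ?_
  rw [h2, h3]
  exact (map_zero _).trans (map_zero _).symm

/-- A map of sheaves which is zero on the cohomology over the preimages of a basis is zero on higher direct images. -/
theorem rpush_map_eq_zero {X Y : TopCat.{u}} (f : X ⟶ Y) {F G : CohTop.Ab X} (φ : F ⟶ G) (n : ℕ)
    (h : ∀ (V : Opens Y) (y : Y) (_ : y ∈ V), ∃ (W : Opens Y) (_ : W ≤ V), y ∈ W ∧
      ∀ x : CohTop.HU F n ((Opens.map f).obj W), CohTop.HUmap φ n ((Opens.map f).obj W) x = 0) :
    (CohTop.Rpush f n).map φ = 0 := by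
  have _ : ((Opens.map f).sheafPushforwardContinuous AddCommGrpCat.{u}
      (Opens.grothendieckTopology Y) (Opens.grothendieckTopology X)).Additive :=
      inferInstanceAs (CohTop.push f).Additive
  have e := (Groth.Agent.CohtopB.RPushExt.siteIso (Opens.grothendieckTopology X)
      (Opens.grothendieckTopology Y) (Opens.map f) n).hom.naturality φ
  have h0 : (Sheaf.cohomologyPresheafFunctor.{u} (Opens.grothendieckTopology X) n ⋙
      Groth.Agent.CohtopB.RPushExt.preSh (Opens.grothendieckTopology Y) (Opens.map f)).map φ = 0 := by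
    refine map_eq_zero_of_locally (Functor.whiskerLeft (Opens.map f).op
      ((Sheaf.cohomologyPresheafFunctor.{u} (Opens.grothendieckTopology X) n).map φ)) fun V y hy => ?_
    obtain ⟨W, hW, hyW, h1⟩ := h V y hy
    refine ⟨W, hW, hyW, ?_⟩
    ext x
    exact h1 x
  rw [h0, comp_zero] at e
  exact (cancel_mono ((Groth.Agent.CohtopB.RPushExt.siteIso (Opens.grothendieckTopology X)
      (Opens.grothendieckTopology Y) (Opens.map f) n).hom.app G)).1 (e.trans zero_comp.symm)

end K205.RpushZero
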