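import Groth.Agent.DeRhamSh.K205.RedAff
import Groth.Agent.DeRhamSh.K205.RpushZero

/-!
# The vanishing of the top differential on `R^n f_*`, from the local statement
-/

set_option autoImplicit false
universe u

open CategoryTheory CategoryTheory.Limits AlgebraicGeometry Opposite TopologicalSpace

namespace K205.RedTop

open K205.TopRed

/-- The vanishing over the preimage of an affine open. -/
theorem zU_preimage (e : ℕ) (hLOC : Loc.LOC.{u} e) {S X : Scheme.{u}} (f : X ⟶ S) [IsProper f]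
    [SmoothOfRelativeDimension (e + 1) f] (D : DeRhamSh.OmegaCx f) (W : S.Opens) (hW : IsAffineOpen W) :
    ZU (X := X.toTopCat) (Loc.dd D e) (e + 1) (f ⁻¹ᵁ W) := by
  have hr : SmoothOfRelativeDimension (e + 1) (f ∣_ W) := by
    have _ := smoothOfRelativeDimension_isStableUnderBaseChange (e + 1)
    exact MorphismProperty.of_isPullback (P := @SmoothOfRelativeDimension (e + 1))
      (isPullback_morphismRestrict f W).flip ‹_›
  have hp : IsProper (f ∣_ W ≫ hW.isoSpec.hom) := inferInstance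
  have hs : SmoothOfRelativeDimension (e + 1) (f ∣_ W ≫ hW.isoSpec.hom) := by
    have : SmoothOfRelativeDimension ((e + 1) + 0) (f ∣_ W ≫ hW.isoSpec.hom) := inferInstance
    rwa [add_zero] at this
  have w : (f ∣_ W ≫ hW.isoSpec.hom) ≫ hW.fromSpec = (f ⁻¹ᵁ W).ι ≫ f := by
    rw [Category.assoc, IsAffineOpen.isoSpec_hom_fromSpec, morphismRestrict_ι]
  obtain ⟨D', -, hD'⟩ := CxRestr.exists_restr (f ⁻¹ᵁ W) w D e
  exact zU_of_resFunctor (f ⁻¹ᵁ W).ι.isOpenEmbedding
    (hD' (@RedAff.pv e hLOC Γ(S, W) _ (f ⁻¹ᵁ W : Scheme.{u}) (f ∣_ W ≫ hW.isoSpec.hom) hp hs D')) (f ⁻¹ᵁ W)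
    ((f ⁻¹ᵁ W).ι_image_top).symm

/-- **S15537 from the local statement.** -/
theorem main (hLOC : ∀ e, Loc.LOC.{u} e) {S X : Scheme.{u}} (f : X ⟶ S) [IsProper f] (e : ℕ)
    [SmoothOfRelativeDimension (e + 1) f] (D : DeRhamSh.OmegaCx f) :
    (Coh.RpushAb f (e + 1)).map ((D.iso e).inv ≫ D.K.d e (e + 1) ≫ (D.iso (e + 1)).hom) = 0 := by
  refine RpushZero.rpush_map_eq_zero (X := X.toTopCat) (Y := S.toTopCat) f.base (Loc.dd D e) (e + 1)
    fun V y hy => ?_
  obtain ⟨_, ⟨W, hW, rfl⟩, hyW, hWV⟩ := S.isBasis_affineOpens.exists_subset_of_mem_open hy V.isOpen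
  exact ⟨W, hWV, hyW, fun x => zU_preimage e (hLOC e) f D W hW x⟩

end K205.RedTop
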