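import Groth.Agent.DeRhamSh.K205.Loc
import Groth.Agent.DeRhamSh.K205.RedAlg
import Groth.Agent.Ega3B.FlatCohBC
import Groth.Agent.DelIll.K890.BcTot
import Groth.Agent.DelIll.K904.LogCxT

/-!
# Čech rows of a de Rham complex as modules over the base ring

`psi`: the de Rham differential on Čech cochains; `hZero_iff`: the property `HZero` in terms of Čech cochains;
`zz_iff_hZero`: the property `ZZ` for the algebra `B` is the property `HZero` after base change to `B`.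
-/

set_option autoImplicit false
universe u

open CategoryTheory CategoryTheory.Limits AlgebraicGeometry Opposite TopologicalSpace TensorProduct

namespace K205.Rows

open Groth.Agent.Ega3B Groth.Agent.Ega3B.CombRes Groth.Agent.VarietyB.BCAlg K205.RedAlg
open Groth.Agent.CohqA.BCPull (toU)
open Groth.Agent.Sga67.Sec

attribute [local instance 3000] LocExact.hasSheafify

section One

variable {A : Type u} [CommRing A] {X : Scheme.{u}} {f : X ⟶ Spec (CommRingCat.of A)} {Ω' : X.Modules}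
  {δ : OmegaSh.Der f Ω'} (K : DeRhamSh.Cx f Ω' δ)
  (h : KLinDR.TermwiseLinear (Coh.toGlobal f) K.K K.term K.iso) (𝔇 : Data X.toPresheafedSpace.carrier)

include h in
theorem dd_smul (e : ℕ) (a : A) : Coh.smulAb (K.term e) (Coh.toGlobal f a) ≫ Loc.dd K e =
    Loc.dd K e ≫ Coh.smulAb (K.term (e + 1)) (Coh.toGlobal f a) := by
  have h1 := h a e
  have h2 : Loc.dd K e ≫ Coh.smulAb (K.term (e + 1)) (Coh.toGlobal f a) =
      (K.iso e).inv ≫ (K.K.d e (e + 1) ≫ KLinDR.scalarEnd (Coh.toGlobal f) K.term K.iso a (e + 1)) ≫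
        (K.iso (e + 1)).hom := by
    simp [KLinDR.scalarEnd, Loc.dd]
  rw [h2, h1]
  simp [KLinDR.scalarEnd, Loc.dd]

/-- The de Rham differential on Čech cochains. -/
noncomputable def psi (n e : ℕ) : CombMod.C (Coh.toGlobal f) 𝔇 (K.term e) n →ₗ[A]
    CombMod.C (Coh.toGlobal f) 𝔇 (K.term (e + 1)) n where
  toFun := 𝔇.Kmap n (Loc.dd K e).hom
  map_add' := map_add (𝔇.Kmap n (Loc.dd K e).hom)
  map_smul' r x := by
    funext b
    exact congrArg (fun t : Coh.toAb (K.term e) ⟶ Coh.toAb (K.term (e + 1)) => (t.hom.app (op (𝔇.W n b))).hom (x b))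
      (dd_smul K h e r)

theorem psi_apply (n e : ℕ) (x : CombMod.C (Coh.toGlobal f) 𝔇 (K.term e) n) (b : 𝔇.B n) :
    psi K h 𝔇 n e x b = ((Loc.dd K e).hom.app (op (𝔇.W n b))).hom (x b) := rfl

theorem d_psi (n e : ℕ) (x : CombMod.C (Coh.toGlobal f) 𝔇 (K.term e) n) :
    CombMod.d (Coh.toGlobal f) 𝔇 (K.term (e + 1)) n (psi K h 𝔇 n e x) =
      psi K h 𝔇 (n + 1) e (CombMod.d (Coh.toGlobal f) 𝔇 (K.term e) n x) :=
  𝔇.δ_naturality n (Loc.dd K e).hom x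

variable {𝔇}

/-- The property `HZero` on Čech cochains. -/
theorem hZero_iff (hD : 𝔇.LocGood) (hW : ∀ n b, IsAffineOpen (X := X) (𝔇.W n b)) (hq : ∀ a, Coh.IsQCoh (K.term a))
    (e : ℕ) : Loc.HZero K e ↔ ∀ x : CombMod.C (Coh.toGlobal f) 𝔇 (K.term e) (e + 1),
      CombMod.d (Coh.toGlobal f) 𝔇 (K.term e) (e + 1) x = 0 →
        ∃ y, CombMod.d (Coh.toGlobal f) 𝔇 (K.term (e + 1)) e y = psi K h 𝔇 (e + 1) e x := by
  have hac := CombMod.acyclic 𝔇 (hq e) hW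
  have hac' := CombMod.acyclic 𝔇 (hq (e + 1)) hW
  constructor
  · intro H x hx
    have h1 := H (Data.θ (Coh.toAb (K.term e)) hD (e + 1) ⟨x, hx⟩)
    rw [← Data.θ_naturality hD (e + 1) (Loc.dd K e) ⟨x, hx⟩] at h1
    exact (Data.θ_eq_zero_iff hD hac' e _).1 h1
  · intro H z
    obtain ⟨⟨x, hx⟩, rfl⟩ := Data.θ_surjective hD hac (e + 1) z
    refine (Data.θ_naturality hD (e + 1) (Loc.dd K e) ⟨x, hx⟩).symm.trans ?_
    exact (Data.θ_eq_zero_iff hD hac' e _).2 (H x hx)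

/-- Čech cochains as a product of modules of sections. -/
noncomputable abbrev modS (f : X ⟶ Spec (CommRingCat.of A)) (M : X.Modules) (W : X.Opens) : Module A Γ(M, W) :=
  Module.compHom Γ(M, W) (toU f W)

/-- Čech cochains as a product of modules of sections. -/
noncomputable def piE (f : X ⟶ Spec (CommRingCat.of A)) (𝔇 : Data X.toPresheafedSpace.carrier) (M : X.Modules)
    (n : ℕ) : letI := fun b : 𝔇.B n => modS f M (𝔇.W n b)
    CombMod.C (Coh.toGlobal f) 𝔇 M n ≃ₗ[A] (∀ b : 𝔇.B n, Γ(M, 𝔇.W n b)) :=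
  letI := fun b : 𝔇.B n => modS f M (𝔇.W n b)
  { toFun := fun x => x
    invFun := fun x => x
    left_inv := fun _ => rfl
    right_inv := fun _ => rfl
    map_add' := fun _ _ => rfl
    map_smul' := fun _ _ => rfl }

end One

section Beta

open _root_.K904.LogCxT _root_.K904.LogCxS

variable {A B : Type u} [CommRing A] [CommRing B] [Algebra A B] {X X' : Scheme.{u}}
  {f : X ⟶ Spec (CommRingCat.of A)} {f' : X' ⟶ Spec (CommRingCat.of B)} {q : X' ⟶ X}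
  {Ω : X.Modules} {δ : OmegaSh.Der f Ω} {Ω' : X'.Modules} {δ' : OmegaSh.Der f' Ω'}

/-- Base change of the terms of a de Rham complex. -/
theorem exists_beta_term [Smooth f] (sq : IsPullback q f' f (Spec.map (CommRingCat.ofHom (algebraMap A B))))
    (hd : OmegaSh.IsUniversal δ) (hd' : OmegaSh.IsUniversal δ')
    (K : DeRhamSh.Cx f Ω δ) (K' : DeRhamSh.Cx f' Ω' δ') :
    ∃ β : ∀ (a : ℕ) (U : X.affineOpens), Sec (K.term a) U.1 →+ Sec (K'.term a) (q ⁻¹ᵁ U.1),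
      (∀ (a : ℕ) (U V : X.affineOpens) (h : V.1 ≤ U.1) (s : Sec (K.term a) U.1),
        β a V (res _ h s) = res _ (q.preimage_mono h) (β a U s)) ∧
      (∀ (a : ℕ) (U : X.affineOpens) (x : Γ(X, U.1)) (s : Sec (K.term a) U.1),
        β a U (x • s) = (q.app U.1 x : Γ(X', q ⁻¹ᵁ U.1)) • β a U s) ∧
      (∀ (a : ℕ) (U : X.affineOpens) (s : Sec (K.term a) U.1),
        β (a + 1) U (((Loc.dd K a).hom.app (op U.1)).hom s) =
          ((Loc.dd K' a).hom.app (op (q ⁻¹ᵁ U.1))).hom (β a U s)) ∧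
      (∀ (a : ℕ) (U : X.affineOpens) [Module A (Sec (K.term a) U.1)]
        (_ : ∀ (x : A) (s : Sec (K.term a) U.1), x • s = toU f U.1 x • s)
        (l : B ⊗[A] Sec (K.term a) U.1 →+ Sec (K'.term a) (q ⁻¹ᵁ U.1))
        (_ : ∀ (x : B) (s : Sec (K.term a) U.1), l (x ⊗ₜ s) = toU f' (q ⁻¹ᵁ U.1) x • β a U s),
        Function.Bijective l) :=
  _root_.K904.LogCxM.exists_beta (triv δ (Fin.elim0 : Fin 0 → X.IdealSheafData))
    (triv δ' (fun i => ((Fin.elim0 : Fin 0 → X.IdealSheafData) i).comap q)) sq hd hd' (isNCD_empty f _)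
    (ofCx K _) (ofCx K' _)

end Beta

section BC

variable {A B : Type u} [CommRing A] [CommRing B] [Algebra A B]

/-- Bijectivity of linearizations is invariant under equivalences. -/
theorem bc_bijective_of_equiv {M N M' N' : Type u} [AddCommGroup M] [Module A M] [AddCommGroup N] [Module A N]
    [AddCommGroup M'] [Module B M'] [AddCommGroup N'] [Module B N'] (e : M ≃ₗ[A] N) (e' : M' ≃ₗ[B] N')
    (s : M →ₛₗ[algebraMap A B] M') (t : N →ₛₗ[algebraMap A B] N') (h : ∀ m, e' (s m) = t (e m))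
    (ht : Function.Bijective (bc t)) : Function.Bijective (bc s) := by
  have h1 : (e' : M' → N') ∘ (bc s : _ → _) = (bc t : _ → _) ∘ (LinearEquiv.lTensor B e) := by
    funext x
    exact bc_comm s t e.toLinearMap e'.toLinearMap h x
  have h2 : Function.Bijective ((e' : M' → N') ∘ (bc s : _ → _)) := by
    rw [h1]
    exact ht.comp (LinearEquiv.bijective _)
  exact (Function.Bijective.of_comp_iff' e'.bijective _).1 h2

variable {X X' : Scheme.{u}} {f : X ⟶ Spec (CommRingCat.of A)} {f' : X' ⟶ Spec (CommRingCat.of B)} {q : X' ⟶ X}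
  (sq : IsPullback q f' f (Spec.map (CommRingCat.ofHom (algebraMap A B))))

include sq in
theorem app_toU (W : X.affineOpens) (a : A) : q.app W.1 (toU f W.1 a) = toU f' (q ⁻¹ᵁ W.1) (algebraMap A B a) := by
  have hpo := Groth.Agent.CohqA.BCPull.isPushout_toU f f' q sq W.1 W.2
  have := congr($(hpo.w).hom a)
  rw [Scheme.Hom.app_eq_appLE]
  exact this

variable {M : X.Modules} {M' : X'.Modules} (𝔇 : Data X.toPresheafedSpace.carrier)
  (hW : ∀ n b, IsAffineOpen (X := X) (𝔇.W n b))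
  (β : ∀ U : X.affineOpens, Sec M U.1 →+ Sec M' (q ⁻¹ᵁ U.1))
  (h1 : ∀ (U V : X.affineOpens) (h : V.1 ≤ U.1) (s : Sec M U.1),
        β V (res _ h s) = res _ (q.preimage_mono h) (β U s))
  (h2 : ∀ (U : X.affineOpens) (x : Γ(X, U.1)) (s : Sec M U.1),
        β U (x • s) = (q.app U.1 x : Γ(X', q ⁻¹ᵁ U.1)) • β U s)

/-- the base change map on cochains -/
noncomputable def sg (n : ℕ) : CombMod.C (Coh.toGlobal f) 𝔇 M n →ₛₗ[algebraMap A B]
    CombMod.C (Coh.toGlobal f') (K890.BcTot.comapD q.base 𝔇) M' n where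
  toFun x := fun b => β ⟨𝔇.W n b, hW n b⟩ (x b)
  map_add' x y := by
    funext b
    exact map_add (β ⟨𝔇.W n b, hW n b⟩) (x b) (y b)
  map_smul' r x := by
    funext b
    refine (h2 ⟨𝔇.W n b, hW n b⟩ (toU f (𝔇.W n b) r) (x b)).trans ?_
    rw [app_toU sq]
    rfl

theorem sg_apply (n : ℕ) (x : CombMod.C (Coh.toGlobal f) 𝔇 M n) (b : 𝔇.B n) :
    sg sq 𝔇 hW β h2 n x b = β ⟨𝔇.W n b, hW n b⟩ (x b) := rfl

/-- the base change map on sections -/
noncomputable def sgS (U : X.affineOpens) : letI := modS f M U.1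
    letI := modS f' M' (q ⁻¹ᵁ U.1)
    Γ(M, U.1) →ₛₗ[algebraMap A B] Γ(M', q ⁻¹ᵁ U.1) :=
  letI := modS f M U.1
  letI := modS f' M' (q ⁻¹ᵁ U.1)
  { toFun := β U
    map_add' := map_add (β U)
    map_smul' := fun r x => by
      refine (h2 U (toU f U.1 r) x).trans ?_
      rw [app_toU sq]
      rfl }

theorem bijective_bc_sg (h4 : ∀ (U : X.affineOpens) [Module A (Sec M U.1)]
        (_ : ∀ (x : A) (s : Sec M U.1), x • s = toU f U.1 x • s)
        (l : B ⊗[A] Sec M U.1 →+ Sec M' (q ⁻¹ᵁ U.1))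
        (_ : ∀ (x : B) (s : Sec M U.1), l (x ⊗ₜ s) = toU f' (q ⁻¹ᵁ U.1) x • β U s),
        Function.Bijective l) (n : ℕ) : Function.Bijective (bc (sg sq 𝔇 hW β h2 n)) := by
  let _ := fun b : 𝔇.B n => modS f M (𝔇.W n b)
  let _ := fun b : 𝔇.B n => modS f' M' (q ⁻¹ᵁ (𝔇.W n b))
  let t : (∀ b : 𝔇.B n, Γ(M, 𝔇.W n b)) →ₛₗ[algebraMap A B] (∀ b : 𝔇.B n, Γ(M', q ⁻¹ᵁ (𝔇.W n b))) :=
    piS fun b => sgS sq β h2 ⟨𝔇.W n b, hW n b⟩
  have ht : Function.Bijective (bc t) := by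
    refine bc_piS_bijective _ fun b => ?_
    exact @h4 ⟨𝔇.W n b, hW n b⟩ (modS f M (𝔇.W n b)) (fun _ _ => rfl)
      (bc (sgS sq β h2 ⟨𝔇.W n b, hW n b⟩)).toAddMonoidHom
      fun x s => bc_tmul (sgS sq β h2 ⟨𝔇.W n b, hW n b⟩) x s
  let e' : CombMod.C (Coh.toGlobal f') (K890.BcTot.comapD q.base 𝔇) M' n ≃ₗ[B]
      (∀ b : 𝔇.B n, Γ(M', q ⁻¹ᵁ (𝔇.W n b))) := piE f' (K890.BcTot.comapD q.base 𝔇) M' n
  exact bc_bijective_of_equiv (piE f 𝔇 M n) e' _ t (fun _ => rfl) ht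

include h1 in
theorem d_sg (n : ℕ) (x : CombMod.C (Coh.toGlobal f) 𝔇 M n) :
    CombMod.d (Coh.toGlobal f') (K890.BcTot.comapD q.base 𝔇) M' n (sg sq 𝔇 hW β h2 n x) =
      sg sq 𝔇 hW β h2 (n + 1) (CombMod.d (Coh.toGlobal f) 𝔇 M n x) := by
  classical
  funext i
  have e1 : (CombMod.d (Coh.toGlobal f) 𝔇 M n x i : Sec M (𝔇.W (n + 1) i)) =
      ∑ j, if h : 𝔇.W (n + 1) i ≤ 𝔇.W n j then 𝔇.m n i j • res M h (x j) else 0 :=
    𝔇.δ_apply n _ i
  have e2 : (CombMod.d (Coh.toGlobal f') (K890.BcTot.comapD q.base 𝔇) M' n (sg sq 𝔇 hW β h2 n x) i :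
      Sec M' (q ⁻¹ᵁ (𝔇.W (n + 1) i))) =
      ∑ j, if h : q ⁻¹ᵁ (𝔇.W (n + 1) i) ≤ q ⁻¹ᵁ (𝔇.W n j) then
        𝔇.m n i j • res M' h (β ⟨𝔇.W n j, hW n j⟩ (x j)) else 0 :=
    (K890.BcTot.comapD q.base 𝔇).δ_apply n _ i
  have key : (CombMod.d (Coh.toGlobal f') (K890.BcTot.comapD q.base 𝔇) M' n (sg sq 𝔇 hW β h2 n x) i :
      Sec M' (q ⁻¹ᵁ (𝔇.W (n + 1) i))) = β ⟨𝔇.W (n + 1) i, hW (n + 1) i⟩
        (CombMod.d (Coh.toGlobal f) 𝔇 M n x i : Sec M (𝔇.W (n + 1) i)) := by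
    rw [e1, e2, map_sum]
    refine Finset.sum_congr rfl fun j _ => ?_
    by_cases h : 𝔇.W (n + 1) i ≤ 𝔇.W n j
    · rw [dif_pos h, dif_pos (q.preimage_mono h), map_zsmul,
        h1 ⟨𝔇.W n j, hW n j⟩ ⟨𝔇.W (n + 1) i, hW (n + 1) i⟩ h]
    · have h0 : 𝔇.m n i j = 0 := by
        by_contra h0
        exact h (𝔇.le n i j h0)
      rw [dif_neg h, h0, map_zero]
      split_ifs
      · exact zero_smul _ _
      · rfl
  exact key

end BC

section Main

variable {A B : Type u} [CommRing A] [CommRing B] [Algebra A B] {X X' : Scheme.{u}}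
  {f : X ⟶ Spec (CommRingCat.of A)} {f' : X' ⟶ Spec (CommRingCat.of B)} {q : X' ⟶ X}
  {Ω : X.Modules} {δ : OmegaSh.Der f Ω} {Ω' : X'.Modules} {δ' : OmegaSh.Der f' Ω'}

/-- **`ZZ` for the algebra `B` is `HZero` after base change to `B`.** -/
theorem zz_iff_hZero [Smooth f] (sq : IsPullback q f' f (Spec.map (CommRingCat.ofHom (algebraMap A B))))
    (hd : OmegaSh.IsUniversal δ) (hd' : OmegaSh.IsUniversal δ')
    (K : DeRhamSh.Cx f Ω δ) (K' : DeRhamSh.Cx f' Ω' δ')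
    (h : KLinDR.TermwiseLinear (Coh.toGlobal f) K.K K.term K.iso)
    (h' : KLinDR.TermwiseLinear (Coh.toGlobal f') K'.K K'.term K'.iso)
    (𝔇 : Data X.toPresheafedSpace.carrier) (hW : ∀ n b, IsAffineOpen (X := X) (𝔇.W n b))
    (hD' : (K890.BcTot.comapD q.base 𝔇).LocGood) (hq' : ∀ a, Coh.IsQCoh (K'.term a)) (e : ℕ) :
    ZZ (CombMod.d (Coh.toGlobal f) 𝔇 (K.term e) (e + 1)) (CombMod.d (Coh.toGlobal f) 𝔇 (K.term (e + 1)) e)
      (psi K h 𝔇 (e + 1) e) B ↔ Loc.HZero K' e := by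
  obtain ⟨β, h1, h2, h3, h4⟩ := exists_beta_term sq hd hd' K K'
  have haff : IsAffineHom q := MorphismProperty.of_isPullback (P := @IsAffineHom) sq.flip inferInstance
  rw [hZero_iff K' h' hD' (fun n b => (hW n b).preimage q) hq' e]
  exact zz_iff (sg sq 𝔇 hW (β e) (h2 e) (e + 1)) (sg sq 𝔇 hW (β e) (h2 e) (e + 2))
    (sg sq 𝔇 hW (β (e + 1)) (h2 (e + 1)) e) (sg sq 𝔇 hW (β (e + 1)) (h2 (e + 1)) (e + 1))
    (fun m => d_sg sq 𝔇 hW (β e) (h1 e) (h2 e) (e + 1) m)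
    (fun m => d_sg sq 𝔇 hW (β (e + 1)) (h1 (e + 1)) (h2 (e + 1)) e m)
    (fun m => by
      funext b
      exact (h3 e ⟨𝔇.W (e + 1) b, hW (e + 1) b⟩ (m b)).symm)
    (bijective_bc_sg sq 𝔇 hW (β e) (h2 e) (h4 e) _) (bijective_bc_sg sq 𝔇 hW (β e) (h2 e) (h4 e) _)
    (bijective_bc_sg sq 𝔇 hW (β (e + 1)) (h2 (e + 1)) (h4 (e + 1)) _)
    (bijective_bc_sg sq 𝔇 hW (β (e + 1)) (h2 (e + 1)) (h4 (e + 1)) _)

end Main

end K205.Rows
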