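import Groth.Agent.CohqA.HOpen
import Groth.Agent.CohqA.MV

/-!
# Maps of abelian sheaves which are zero on cohomology over open sets
-/

set_option autoImplicit false
universe u

open CategoryTheory Abelian Limits Opposite TopologicalSpace Topology

namespace K205.TopRed

open Groth.Agent.CohtopA.FreeAb Groth.Agent.CohtopA.Flasque Groth.Agent.CohqA.HOpen

variable {X : TopCat.{u}} {F G : CohTop.Ab X} (φ : F ⟶ G) (n : ℕ)

/-- `φ` is zero on `H^n(U, -)`. -/
def ZU (U : Opens X) : Prop :=
  ∀ x : Ext.{u} (freeAb (Opens.grothendieckTopology X) U) F n, x.comp (Ext.mk₀ φ) (add_zero n) = 0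

variable {φ n}

theorem zU_bot : ZU φ n ⊥ := fun _ =>
  @Subsingleton.elim _ (Groth.Agent.CohqA.MV.ext_subsingleton_of_isZero G
    (Groth.Agent.CohqA.MV.isZero_freeAb_bot (X := X)) n) _ _

/-- The property on a disjoint union of two opens. -/
theorem zU_sup {U V : Opens X} (hUV : U ⊓ V = ⊥) (hU : ZU φ (n + 1) U) (hV : ZU φ (n + 1) V) :
    ZU φ (n + 1) (U ⊔ V) := by
  intro x
  obtain ⟨z, hz⟩ := Groth.Agent.CohqA.MV.ext_exists_of_zero (Groth.Agent.CohqA.MV.shortExact U V) G n
    (x.comp (Ext.mk₀ φ) (add_zero (n + 1)))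
    (by rw [← Ext.comp_assoc_of_third_deg_zero]; exact hU _)
    (by rw [← Ext.comp_assoc_of_third_deg_zero]; exact hV _)
  have h0 : IsZero (freeAb (Opens.grothendieckTopology X) (U ⊓ V)) := by
    rw [hUV]
    exact Groth.Agent.CohqA.MV.isZero_freeAb_bot
  have h1 := Groth.Agent.CohqA.MV.ext_subsingleton_of_isZero G h0 n
  rw [← hz, Subsingleton.elim z 0, Ext.comp_zero]

/-- The property on a finite disjoint union of opens. -/
theorem zU_finset {ι : Type*} (s : Finset ι) (U : ι → Opens X) (hd : ∀ i ∈ s, ∀ j ∈ s, i ≠ j → U i ⊓ U j = ⊥)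
    (hU : ∀ i ∈ s, ZU φ (n + 1) (U i)) : ZU φ (n + 1) (s.sup U) := by
  classical
  induction s using Finset.induction_on with
  | empty => exact zU_bot
  | insert a s ha ih =>
    rw [Finset.sup_insert]
    refine zU_sup ?_ (hU a (Finset.mem_insert_self a s)) (ih
      (fun i hi j hj => hd i (Finset.mem_insert_of_mem hi) j (Finset.mem_insert_of_mem hj))
      (fun i hi => hU i (Finset.mem_insert_of_mem hi)))
    rw [Finset.sup_eq_iSup, inf_iSup_eq]
    refine iSup_eq_bot.2 fun i => ?_
    rw [inf_iSup_eq]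
    refine iSup_eq_bot.2 fun hi => ?_
    exact hd a (Finset.mem_insert_self a s) i (Finset.mem_insert_of_mem hi) fun h => ha (h ▸ hi)

/-- Global cohomology. -/
theorem eq_zero_of_zU_top (H : ZU φ n ⊤) (x : CohTop.H F n) : Sheaf.H.map φ n x = 0 := by
  have h1 := Groth.Agent.CohtopA.HTop.HAddEquiv_comp (Opens.grothendieckTopology X)
    (isTerminalTop : IsTerminal (⊤ : Opens X)) (add_zero n) x (Ext.mk₀ φ)
  rw [H] at h1
  exact (Groth.Agent.CohtopA.HTop.HAddEquiv (Opens.grothendieckTopology X)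
    (isTerminalTop : IsTerminal (⊤ : Opens X)) G n).injective (h1.trans (map_zero _).symm)

theorem zU_top_of_eq_zero (H : ∀ x : CohTop.H F n, Sheaf.H.map φ n x = 0) : ZU φ n ⊤ := by
  intro y
  obtain ⟨x, rfl⟩ := (Groth.Agent.CohtopA.HTop.HAddEquiv (Opens.grothendieckTopology X)
    (isTerminalTop : IsTerminal (⊤ : Opens X)) F n).surjective y
  have h1 := Groth.Agent.CohtopA.HTop.HAddEquiv_comp (Opens.grothendieckTopology X)
    (isTerminalTop : IsTerminal (⊤ : Opens X)) (add_zero n) x (Ext.mk₀ φ)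
  have h2 : x.comp (Ext.mk₀ φ) (add_zero n) = 0 := H x
  rw [h2] at h1
  exact h1.symm.trans (map_zero _)

/-- The property for the restriction to an open subspace. -/
theorem zU_of_resFunctor {Z : TopCat.{u}} {f : Z ⟶ X} (h : IsOpenEmbedding f)
    (H : ∀ x : CohTop.H ((resFunctor h).obj F) n, Sheaf.H.map ((resFunctor h).map φ) n x = 0) (U : Opens X)
    (hU : U = h.functor.obj ⊤) : ZU φ n U := by
  subst hU
  intro x
  refine (compareOpen h ⊤ G n).injective (Eq.trans ?_ (map_zero (compareOpen h ⊤ G n)).symm)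
  exact (compareOpen_map h ⊤ φ n x).trans (zU_top_of_eq_zero H _)

end K205.TopRed
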