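import Groth.Agent.DeRhamSh.K205.CechNat
import Groth.Agent.DeRhamSh.K853.AffCompare

/-!
# The top differential on Čech cocycles of top degree (from the vanishing on `H^(e+1)(X, Ω^e)`)
-/

set_option autoImplicit false
universe u

open CategoryTheory CategoryTheory.Limits AlgebraicGeometry Opposite TopologicalSpace
open Groth.Agent Groth.Agent.LoccohB.GlueHom
open K854.CechMod K854.CechPair

namespace K205.TopZero

/-- The conclusion of `S15534` in Čech form. -/
theorem topZero (k : Type u) [Field k] (X : Scheme.{u}) [X.Over (Spec (CommRingCat.of k))] [X.IsSeparated]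
    [QuasiSeparated (X ↘ Spec (CommRingCat.of k))] (D : DeRhamSh.OmegaCx (X ↘ Spec (CommRingCat.of k))) (e : ℕ)
    (hd : ∀ x : Coh.HH X (D.term e) (e + 1),
      Sheaf.H.map ((D.iso e).inv ≫ D.K.d e (e + 1) ≫ (D.iso (e + 1)).hom) (e + 1) x = 0)
    {ι : Type} [Finite ι] (U : ι → X.Opens) (hcov : ⨆ i, U i = ⊤)
    (hU : ∀ s : Finset ι, s.Nonempty → IsAffineOpen (⨅ i ∈ s, U i))
    (x : Co k U (D.term e) (e + 1)) (hx : dk k U (D.term e) (e + 1) x = 0) :
    ∃ t : Co k U (D.term (e + 1)) e, dk k U (D.term (e + 1)) e t =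
      ff U (D.term (e + 1)) (fun σ => K853.CxAff.dSec D _ e (tf U (D.term e) x σ)) :=
  K205.CechNat.isBd_dSec U hcov hU D e (e + 1) (K853.AffCompare.isQCoh_term (X ↘ Spec (CommRingCat.of k)) D (e + 1)) hd x hx
    (ff U (D.term (e + 1)) (fun σ => K853.CxAff.dSec D _ e (tf U (D.term e) x σ))) (fun _ => rfl)

end K205.TopZero
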